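import Mathlib

/-!
The symmetric square of `GL₂` on triples, and groups of additive permutations of triples containing the upper
unipotent and diagonal elements in which the stabilizer of a point of the first line is as small as possible.
-/

set_option autoImplicit false
set_option linter.all false

namespace Cfsg.Agent.SymSquare

open Equiv (Perm)

universe u

variable {F : Type u} [Field F]

/-- The symmetric square of a matrix as a function on triples. -/
def sym (A : Matrix (Fin 2) (Fin 2) F) (x : F × F × F) : F × F × F :=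
  (A 0 0 * A 0 0 * x.1 + 2 * A 0 0 * A 0 1 * x.2.1 + A 0 1 * A 0 1 * x.2.2,
    A 1 0 * A 0 0 * x.1 + (A 0 0 * A 1 1 + A 0 1 * A 1 0) * x.2.1 + A 0 1 * A 1 1 * x.2.2,
    A 1 0 * A 1 0 * x.1 + 2 * A 1 0 * A 1 1 * x.2.1 + A 1 1 * A 1 1 * x.2.2)

theorem sym_mul (A B : Matrix (Fin 2) (Fin 2) F) (x : F × F × F) : sym (A * B) x = sym A (sym B x) := by
  simp only [sym, Matrix.mul_apply, Fin.sum_univ_two, Prod.mk.injEq]
  refine ⟨?_, ?_, ?_⟩ <;> ring

theorem sym_one (x : F × F × F) : sym (1 : Matrix (Fin 2) (Fin 2) F) x = x := by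
  simp [sym]

theorem sym_add (A : Matrix (Fin 2) (Fin 2) F) (x y : F × F × F) : sym A (x + y) = sym A x + sym A y := by
  simp only [sym, Prod.fst_add, Prod.snd_add, Prod.mk_add_mk, Prod.mk.injEq]
  refine ⟨?_, ?_, ?_⟩ <;> ring

/-- The symmetric square as a permutation representation. -/
def symHom : GL (Fin 2) F →* Perm (F × F × F) where
  toFun g :=
    { toFun := sym (g : Matrix (Fin 2) (Fin 2) F)
      invFun := sym ((g⁻¹ : GL (Fin 2) F) : Matrix (Fin 2) (Fin 2) F)
      left_inv := fun x => by rw [← sym_mul, Units.inv_mul, sym_one]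
      right_inv := fun x => by rw [← sym_mul, Units.mul_inv, sym_one] }
  map_one' := Equiv.ext fun x => sym_one x
  map_mul' g h := Equiv.ext fun x => sym_mul _ _ x

theorem symHom_apply (g : GL (Fin 2) F) (x : F × F × F) :
    symHom g x = sym (g : Matrix (Fin 2) (Fin 2) F) x := rfl

/-- The upper unipotent matrix. -/
def upperGL (s : F) : GL (Fin 2) F where
  val := !![1, s; 0, 1]
  inv := !![1, -s; 0, 1]
  val_inv := by ext i j; fin_cases i <;> fin_cases j <;> simp [Matrix.mul_apply, Fin.sum_univ_two]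
  inv_val := by ext i j; fin_cases i <;> fin_cases j <;> simp [Matrix.mul_apply, Fin.sum_univ_two]

/-- The lower unipotent matrix. -/
def lowerGL (s : F) : GL (Fin 2) F where
  val := !![1, 0; s, 1]
  inv := !![1, 0; -s, 1]
  val_inv := by ext i j; fin_cases i <;> fin_cases j <;> simp [Matrix.mul_apply, Fin.sum_univ_two]
  inv_val := by ext i j; fin_cases i <;> fin_cases j <;> simp [Matrix.mul_apply, Fin.sum_univ_two]

/-- The diagonal matrix. -/
def diagGL (k l : Fˣ) : GL (Fin 2) F where
  val := !![(k : F), 0; 0, (l : F)]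
  inv := !![((k⁻¹ : Fˣ) : F), 0; 0, ((l⁻¹ : Fˣ) : F)]
  val_inv := by ext i j; fin_cases i <;> fin_cases j <;> simp [Matrix.mul_apply, Fin.sum_univ_two]
  inv_val := by ext i j; fin_cases i <;> fin_cases j <;> simp [Matrix.mul_apply, Fin.sum_univ_two]

/-- The upper unipotent element. -/
def U (s : F) : Perm (F × F × F) := symHom (upperGL s)

/-- The lower unipotent element. -/
def L (s : F) : Perm (F × F × F) := symHom (lowerGL s)

/-- The diagonal element. -/
def T (l : Fˣ) : Perm (F × F × F) := symHom (diagGL 1 l)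

theorem U_apply (s : F) (x : F × F × F) :
    U s x = (x.1 + 2 * s * x.2.1 + s * s * x.2.2, x.2.1 + s * x.2.2, x.2.2) := by
  simp [U, symHom_apply, upperGL, sym]

theorem L_apply (s : F) (x : F × F × F) :
    L s x = (x.1, s * x.1 + x.2.1, s * s * x.1 + 2 * s * x.2.1 + x.2.2) := by
  simp [L, symHom_apply, lowerGL, sym]

theorem T_apply (l : Fˣ) (x : F × F × F) : T l x = (x.1, (l : F) * x.2.1, (l : F) * l * x.2.2) := by
  simp [T, symHom_apply, diagGL, sym]

theorem U_add (s r : F) : U (s + r) = U s * U r := by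
  refine Equiv.ext fun x => ?_
  simp only [Equiv.Perm.mul_apply, U_apply, Prod.mk.injEq]
  refine ⟨?_, ?_, ?_⟩ <;> first | trivial | ring

theorem U_zero : U (0 : F) = 1 := by
  refine Equiv.ext fun x => ?_
  simp [U_apply]

theorem U_inv (s : F) : (U s)⁻¹ = U (-s) := by
  rw [inv_eq_iff_mul_eq_one, ← U_add, add_neg_cancel, U_zero]

theorem T_mul (k l : Fˣ) : T (k * l) = T k * T l := by
  refine Equiv.ext fun x => ?_
  simp only [Equiv.Perm.mul_apply, T_apply, Units.val_mul, Prod.mk.injEq]
  refine ⟨trivial, ?_, ?_⟩ <;> ring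

theorem T_one : T (1 : Fˣ) = 1 := by
  refine Equiv.ext fun x => ?_
  simp [T_apply]

/-- The first line. -/
def za (a : F) : F × F × F := (a, 0, 0)

theorem za_injective : Function.Injective (za : F → F × F × F) := fun a b h => congrArg Prod.fst h

theorem U_za (s a : F) : U s (za a) = za a := by simp [za, U_apply]

theorem T_za (l : Fˣ) (a : F) : T l (za a) = za a := by simp [za, T_apply]

/-- The hypotheses. -/
structure Ctx (p : ℕ) (Γ : Subgroup (Perm (F × F × F))) : Prop where
  prime : p.Prime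
  odd : p ≠ 2
  char : CharP F p
  mod_four : Nat.card F % 4 = 3
  add : ∀ g ∈ Γ, ∀ x y, g (x + y) = g x + g y
  u_mem : ∀ s, U s ∈ Γ
  t_mem : ∀ l, T l ∈ Γ
  fix : ∀ g ∈ Γ, ∀ a : F, a ≠ 0 → g (za a) = za a → ∃ (s : F) (l : Fˣ), g = U s * T l
  move : ∃ g ∈ Γ, (∃ k, g ^ p ^ k = 1) ∧ ∀ s, g ≠ U s
  classes : ∃ a b : F, a ≠ 0 ∧ b ≠ 0 ∧ ∀ g ∈ Γ, g (za a) ≠ za b

namespace Ctx

variable [Finite F] {p : ℕ} {Γ : Subgroup (Perm (F × F × F))} (X : Ctx p Γ)

include X

theorem two_ne : (2 : F) ≠ 0 := by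
  haveI := X.char
  intro h
  have h2 : p ∣ 2 := (CharP.cast_eq_zero_iff F p 2).1 (by exact_mod_cast h)
  exact X.odd (((Nat.prime_dvd_prime_iff_eq X.prime Nat.prime_two).1 h2))

theorem map_zero {g : Perm (F × F × F)} (hg : g ∈ Γ) : g 0 = 0 := by
  have := X.add g hg 0 0
  rwa [add_zero, left_eq_add] at this

theorem map_sub {g : Perm (F × F × F)} (hg : g ∈ Γ) (x y : F × F × F) : g (x - y) = g x - g y := by
  have := X.add g hg (x - y) y
  rw [sub_add_cancel] at this
  rw [this, add_sub_cancel_right]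

theorem map_neg {g : Perm (F × F × F)} (hg : g ∈ Γ) (x : F × F × F) : g (-x) = -g x := by
  have := X.map_sub hg 0 x
  rwa [zero_sub, X.map_zero hg, zero_sub] at this

omit [Finite F] in
theorem za_ne {a : F} (ha : a ≠ 0) : za a ≠ 0 := fun h => ha (congrArg Prod.fst h)

omit [Finite F] in
theorem za_sub (a b : F) : za (a - b) = za a - za b := by simp [za]

/-- An element of `p`-power order fixing a point of the first line is unipotent. -/
theorem unip_of_fix {g : Perm (F × F × F)} (hg : g ∈ Γ) {k : ℕ} (hk : g ^ p ^ k = 1) {a : F} (ha : a ≠ 0)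
    (hfix : g (za a) = za a) : ∃ s, g = U s := by
  haveI := X.char
  haveI := Fact.mk X.prime
  obtain ⟨s, l, rfl⟩ := X.fix g hg a ha hfix
  have key : ∀ (j : ℕ) (x : F × F × F), x.2.2 = 0 →
      (((U s * T l) ^ j) x).2.2 = 0 ∧ (((U s * T l) ^ j) x).2.1 = (l : F) ^ j * x.2.1 := by
    intro j x hx
    induction j with
    | zero => simp [hx]
    | succ j ih =>
      rw [pow_succ', Equiv.Perm.mul_apply]
      obtain ⟨h1, h2⟩ := ih
      rw [Equiv.Perm.mul_apply, T_apply, U_apply]
      simp only [h1, h2, mul_zero, add_zero, pow_succ]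
      exact ⟨trivial, by ring⟩
  have h := (key (p ^ k) (0, 1, 0) rfl).2
  rw [hk, Equiv.Perm.one_apply, mul_one] at h
  have hl : (l : F) = 1 := by
    apply iterateFrobenius_inj F p k
    rw [iterateFrobenius_def, iterateFrobenius_def, one_pow]
    exact h.symm
  exact ⟨s, by rw [show l = 1 from Units.ext hl, T_one, mul_one]⟩

/-- An involution fixing a point of the first line is conjugate to the diagonal one. -/
theorem invol_of_fix {h : Perm (F × F × F)} (hh : h ∈ Γ) (h2 : h * h = 1) (h1 : h ≠ 1) {a : F} (ha : a ≠ 0)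
    (hfix : h (za a) = za a) : ∃ r, h = U r * T (-1) * U (-r) := by
  obtain ⟨s, l, rfl⟩ := X.fix h hh a ha hfix
  have hx := congrArg (fun g : Perm (F × F × F) => g (0, 1, 0)) h2
  simp only [Equiv.Perm.mul_apply, T_apply, U_apply, Equiv.Perm.one_apply, Prod.mk.injEq] at hx
  obtain ⟨e1, e2, -⟩ := hx
  have hl : (l : F) = 1 ∨ (l : F) = -1 := mul_self_eq_one_iff.1 (by linear_combination e2)
  rcases hl with hl | hl
  · exfalso
    apply h1
    have h4 : 2 * (2 * s) = 0 := by linear_combination e1 - 2 * s * (2 + l) * hl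
    have hs : s = 0 := by
      rcases mul_eq_zero.1 h4 with h | h
      · exact absurd h X.two_ne
      · exact (mul_eq_zero.1 h).resolve_left X.two_ne
    rw [show l = 1 from Units.ext hl, hs, T_one, U_zero, mul_one]
  · obtain ⟨r, rfl⟩ : ∃ r, s = 2 * r := ⟨s / 2, (mul_div_cancel₀ s X.two_ne).symm⟩
    refine ⟨r, ?_⟩
    rw [show l = -1 from Units.ext hl]
    refine Equiv.ext fun x => ?_
    have h2' := X.two_ne
    simp only [Equiv.Perm.mul_apply, T_apply, U_apply, Units.val_neg, Units.val_one, Prod.mk.injEq]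
    refine ⟨?_, ?_, ?_⟩ <;> first | trivial | ring

theorem t_sq : T (-1 : Fˣ) * T (-1 : Fˣ) = 1 := by
  rw [← T_mul, neg_one_mul, neg_neg, T_one]

theorem t_ne : T (-1 : Fˣ) ≠ 1 := fun h => by
  have := congrArg (fun g : Perm (F × F × F) => (g ((0, 1, 0) : F × F × F)).2.1) h
  simp only [T_apply, Equiv.Perm.one_apply, Units.val_neg, Units.val_one, mul_one] at this
  exact X.two_ne (by linear_combination -this)

omit [Finite F] X in
theorem t_conj_U (s : F) : T (-1 : Fˣ) * U s = U (-s) * T (-1 : Fˣ) := by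
  refine Equiv.ext fun x => ?_
  simp only [Equiv.Perm.mul_apply, T_apply, U_apply, Units.val_neg, Units.val_one, Prod.mk.injEq]
  refine ⟨?_, ?_, ?_⟩ <;> first | trivial | ring

end Ctx

end Cfsg.Agent.SymSquare
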