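import Cfsg.Agent.Lib.SymSquare.Basic

/-!
The diagonal involution fixes exactly one point of the orbit of the first line apart from the line itself.
-/

set_option autoImplicit false
set_option linter.all false

namespace Cfsg.Agent.SymSquare

open Equiv (Perm)

universe u

variable {F : Type u} [Field F] [Finite F] {p : ℕ} {Γ : Subgroup (Perm (F × F × F))}

theorem perm_ia {α : Type*} (g : Perm α) (x : α) : g⁻¹ (g x) = x := g.symm_apply_apply x

theorem perm_ai {α : Type*} (g : Perm α) (x : α) : g (g⁻¹ x) = x := g.apply_symm_apply x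

/-- The stabilizer of the first line. -/
def St (Γ : Subgroup (Perm (F × F × F))) : Subgroup Γ where
  carrier := {g | ∀ a, ∃ b, (g : Perm (F × F × F)) (za a) = za b}
  one_mem' a := ⟨a, rfl⟩
  mul_mem' {g h} hg hh a := by
    obtain ⟨b, hb⟩ := hh a
    obtain ⟨c, hc⟩ := hg b
    exact ⟨c, by rw [Subgroup.coe_mul, Equiv.Perm.mul_apply, hb, hc]⟩
  inv_mem' {g} hg a := by
    choose f hf using hg
    have hinj : Function.Injective f := fun x y e => za_injective ((g : Perm (F × F × F)).injective (by rw [hf, hf, e]))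
    obtain ⟨b, rfl⟩ := (Finite.injective_iff_surjective.1 hinj) a
    exact ⟨b, by rw [Subgroup.coe_inv, ← hf b, perm_ia]⟩

theorem mem_St {g : Γ} : g ∈ St Γ ↔ ∀ a, ∃ b, (g : Perm (F × F × F)) (za a) = za b := Iff.rfl

namespace Ctx

variable (X : Ctx p Γ)

/-- `U` as an element of the group. -/
def uG (s : F) : Γ := ⟨U s, X.u_mem s⟩

/-- `T` as an element of the group. -/
def tG (l : Fˣ) : Γ := ⟨T l, X.t_mem l⟩

theorem uG_add (s r : F) : X.uG (s + r) = X.uG s * X.uG r := Subtype.ext (U_add s r)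

theorem uG_zero : X.uG 0 = 1 := Subtype.ext U_zero

theorem uG_inv (s : F) : (X.uG s)⁻¹ = X.uG (-s) := Subtype.ext (U_inv s)

theorem uG_mem (s : F) : X.uG s ∈ (St Γ) := fun a => ⟨a, U_za s a⟩

theorem tG_mem (l : Fˣ) : X.tG l ∈ (St Γ) := fun a => ⟨a, T_za l a⟩

theorem uG_inj {s r : F} (h : X.uG s = X.uG r) : s = r := by
  have := congrArg (fun g : Γ => ((g : Perm (F × F × F)) ((0, 1, 1) : F × F × F)).2.1) h
  simpa [uG, U_apply] using this

include X

theorem mem_of_meet_base {g : Γ} {a b : F} (ha : a ≠ 0) (h : (g : Perm (F × F × F)) (za a) = za b) :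
    g ∈ (St Γ) := by
  haveI := X.char
  have hb : b ≠ 0 := fun e => ha (za_injective ((g : Perm (F × F × F)).injective (by
    rw [h, e]; exact (X.map_zero g.2).symm)))
  have hfix : (g * X.uG 1 * g⁻¹ : Perm (F × F × F)) (za b) = za b := by
    simp only [uG, Subgroup.coe_inv, Equiv.Perm.mul_apply]
    rw [← h, perm_ia, U_za]
  have hpow : ((g * X.uG 1 * g⁻¹ : Perm (F × F × F))) ^ p ^ 1 = 1 := by
    rw [pow_one]
    show ((g : Perm (F × F × F)) * U 1 * (g : Perm (F × F × F))⁻¹) ^ p = 1
    rw [conj_pow]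
    have hu : ∀ n : ℕ, (U (1 : F)) ^ n = U (n : F) := fun n => by
      induction n with
      | zero => simp [U_zero]
      | succ n ih => rw [pow_succ, ih, Nat.cast_succ, U_add]
    show (g : Perm (F × F × F)) * (U (1 : F)) ^ p * (g : Perm (F × F × F))⁻¹ = 1
    rw [hu, CharP.cast_eq_zero, U_zero, mul_one, mul_inv_cancel]
  obtain ⟨s, hs⟩ := X.unip_of_fix (g * X.uG 1 * g⁻¹).2 hpow hb hfix
  have hs' : (g : Perm (F × F × F)) * U 1 * (g : Perm (F × F × F))⁻¹ = U s := hs
  have hs0 : s ≠ 0 := fun e => by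
    rw [e, U_zero, mul_inv_eq_one, mul_eq_left] at hs'
    exact one_ne_zero (X.uG_inj (Subtype.ext (hs'.trans U_zero.symm)) : (1 : F) = 0)
  intro c
  have h2 : U s ((g : Perm (F × F × F)) (za c)) = (g : Perm (F × F × F)) (za c) := by
    rw [← hs', Equiv.Perm.mul_apply, Equiv.Perm.mul_apply, perm_ia, U_za]
  rw [U_apply] at h2
  obtain ⟨e1, e2', -⟩ := (Prod.ext_iff.1 h2).imp id Prod.ext_iff.1
  have e2 := e2'
  refine ⟨((g : Perm (F × F × F)) (za c)).1, ?_⟩
  set x := (g : Perm (F × F × F)) (za c) with hx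
  have hc : x.2.2 = 0 := by
    have : s * x.2.2 = 0 := by linear_combination e2
    exact (mul_eq_zero.1 this).resolve_left hs0
  have hb' : x.2.1 = 0 := by
    have h3 : 2 * (s * x.2.1) = 0 := by linear_combination e1 - s * s * hc
    exact (mul_eq_zero.1 ((mul_eq_zero.1 h3).resolve_left X.two_ne)).resolve_left hs0
  show x = za x.1
  exact Prod.ext rfl (Prod.ext hb' hc)

theorem coset_eq_of_meet {g g' : Γ} {a a' : F} (ha : a ≠ 0)
    (h : (g : Perm (F × F × F)) (za a) = (g' : Perm (F × F × F)) (za a')) :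
    (g : Γ ⧸ (St Γ)) = (g' : Γ ⧸ (St Γ)) := by
  refine QuotientGroup.eq.2 ?_
  have h1 : ((g⁻¹ * g' : Γ) : Perm (F × F × F)) (za a') = za a := by
    rw [Subgroup.coe_mul, Equiv.Perm.mul_apply, ← h, Subgroup.coe_inv, perm_ia]
  refine X.mem_of_meet_base (fun e => ha ?_) h1
  apply za_injective
  apply (g : Perm (F × F × F)).injective
  rw [h, e]
  exact (X.map_zero g'.2).trans (X.map_zero g.2).symm

/-- The conjugates of the first line meet the plane spanned by the first two only in the line. -/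
theorem no_plane {g : Γ} {a : F} (ha : a ≠ 0) (h : ((g : Perm (F × F × F)) (za a)).2.2 = 0) :
    ((g : Perm (F × F × F)) (za a)).2.1 = 0 := by
  haveI := X.char
  by_contra hb
  set x := (g : Perm (F × F × F)) (za a) with hx
  set g1 := X.uG (-x.1 / (2 * x.2.1)) * g with hg1
  have hy : (g1 : Perm (F × F × F)) (za a) = (0, x.2.1, 0) := by
    rw [hg1, Subgroup.coe_mul, Equiv.Perm.mul_apply, ← hx]
    show U _ x = _
    rw [U_apply, h]
    have := X.two_ne
    simp only [mul_zero, add_zero, Prod.mk.injEq, and_true]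
    field_simp
    ring
  -- the diagonal involution inverts this element
  set k : Γ := g1⁻¹ * X.tG (-1) * g1 with hk
  have hka : (k : Perm (F × F × F)) (za a) = za (-a) := by
    simp only [hk, tG, Subgroup.coe_mul, Subgroup.coe_inv, Equiv.Perm.mul_apply, hy, T_apply]
    rw [Equiv.Perm.inv_eq_iff_eq, show za (-a) = -za a by simp [za], X.map_neg g1.2, hy]
    simp
  have hkS : k ∈ (St Γ) := X.mem_of_meet_base ha hka
  have hk2 : (k : Perm (F × F × F)) * k = 1 := by
    rw [← Subgroup.coe_mul, ← Subgroup.coe_one Γ]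
    congr 1
    rw [hk]
    calc g1⁻¹ * X.tG (-1) * g1 * (g1⁻¹ * X.tG (-1) * g1) = g1⁻¹ * (X.tG (-1) * X.tG (-1)) * g1 := by group
      _ = 1 := by rw [show X.tG (-1) * X.tG (-1) = 1 from Subtype.ext X.t_sq, mul_one, inv_mul_cancel]
  have hneg : ∀ c, (k : Perm (F × F × F)) (za c) = za (-c) := by
    intro c
    obtain ⟨d, hd⟩ := hkS c
    rw [hd]
    by_contra hne
    have hcd : c + d ≠ 0 := fun e => hne (by rw [eq_neg_of_add_eq_zero_right e])
    have hfix : (k : Perm (F × F × F)) (za (c + d)) = za (c + d) := by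
      have hd2 : (k : Perm (F × F × F)) (za d) = za c := by
        rw [← hd, ← Equiv.Perm.mul_apply, hk2, Equiv.Perm.one_apply]
      rw [show za (c + d) = za c + za d by simp [za], X.add _ k.2, hd, hd2, add_comm]
    by_cases h1 : (k : Perm (F × F × F)) = 1
    · rw [h1, Equiv.Perm.one_apply] at hka
      have h2a : 2 * a = 0 := by linear_combination za_injective hka
      exact ha ((mul_eq_zero.1 h2a).resolve_left X.two_ne)
    obtain ⟨r, hr⟩ := X.invol_of_fix k.2 hk2 h1 hcd hfix
    rw [hr, Equiv.Perm.mul_apply, Equiv.Perm.mul_apply, U_za, T_za, U_za] at hka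
    have h2a : 2 * a = 0 := by linear_combination za_injective hka
    exact ha ((mul_eq_zero.1 h2a).resolve_left X.two_ne)
  -- the image of the first line is the middle line
  have hmid : ∀ c, ∃ b, (g1 : Perm (F × F × F)) (za c) = (0, b, 0) := by
    intro c
    have h1 : T (-1) ((g1 : Perm (F × F × F)) (za c)) = -(g1 : Perm (F × F × F)) (za c) := by
      rw [← X.map_neg g1.2, show -za c = za (-c) by simp [za], ← hneg c, hk]
      simp [tG]
    rw [T_apply] at h1
    simp only [Prod.ext_iff, Prod.fst_neg, Prod.snd_neg, Units.val_neg, Units.val_one] at h1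
    obtain ⟨e1, -, e3⟩ := h1
    refine ⟨((g1 : Perm (F × F × F)) (za c)).2.1, Prod.ext ?_ (Prod.ext rfl ?_)⟩
    · have : 2 * ((g1 : Perm (F × F × F)) (za c)).1 = 0 := by linear_combination e1
      exact (mul_eq_zero.1 this).resolve_left X.two_ne
    · have : 2 * ((g1 : Perm (F × F × F)) (za c)).2.2 = 0 := by linear_combination e3
      exact (mul_eq_zero.1 this).resolve_left X.two_ne
  choose m hm using hmid
  have hmsurj : Function.Surjective m := Finite.injective_iff_surjective.1 fun c d e =>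
    za_injective ((g1 : Perm (F × F × F)).injective (by rw [hm, hm, e]))
  -- so the involution fixes everything modulo the first line
  have hmod : ∀ y, ∃ z, (k : Perm (F × F × F)) y = y + za z := by
    intro y
    set w := (g1 : Perm (F × F × F)) y with hw
    obtain ⟨c, hc⟩ := hmsurj (-2 * w.2.1)
    refine ⟨c, (g1 : Perm (F × F × F)).injective ?_⟩
    rw [X.add _ g1.2, hm, hc, ← hw, hk]
    simp only [tG, Subgroup.coe_mul, Subgroup.coe_inv, Equiv.Perm.mul_apply]
    rw [perm_ai, ← hw, T_apply]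
    simp only [Units.val_neg, Units.val_one, Prod.ext_iff, Prod.fst_add, Prod.snd_add]
    refine ⟨?_, ?_, ?_⟩ <;> ring
  have hfixa : (k * X.uG 1 * k : Γ).1 (za a) = za a := by
    simp [uG, hneg, U_za]
  have hkk : k⁻¹ = k := inv_eq_of_mul_eq_one_right (Subtype.ext hk2)
  have hpow : (k * X.uG 1 * k : Γ).1 ^ p ^ 1 = 1 := by
    rw [pow_one, ← SubmonoidClass.coe_pow]
    have hu : ∀ n : ℕ, (X.uG (1 : F)) ^ n = X.uG (n : F) := fun n => by
      induction n with
      | zero => simp [X.uG_zero]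
      | succ n ih => rw [pow_succ, ih, Nat.cast_succ, X.uG_add]
    have : (k * X.uG 1 * k) ^ p = 1 := by
      nth_rw 2 [← hkk]
      rw [conj_pow, hu, CharP.cast_eq_zero, X.uG_zero, mul_one, mul_inv_cancel]
    rw [this, Subgroup.coe_one]
  obtain ⟨s, hs⟩ := X.unip_of_fix (k * X.uG 1 * k).2 hpow ha hfixa
  have hrel : ∀ y, U 1 ((k : Perm (F × F × F)) y) = (k : Perm (F × F × F)) (U s y) := by
    intro y
    rw [← hs]
    simp only [uG, Subgroup.coe_mul, Equiv.Perm.mul_apply]
    rw [← Equiv.Perm.mul_apply (k : Perm (F × F × F)), hk2, Equiv.Perm.one_apply]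
  have hs1 : s = 1 := by
    obtain ⟨z, hz⟩ := hmod (0, 0, 1)
    obtain ⟨z', hz'⟩ := hmod (U s (0, 0, 1))
    have e := congrArg (fun v : F × F × F => v.2.1) (hrel (0, 0, 1))
    simp only [hz, hz'] at e
    simp [U_apply, za] at e
    exact e.symm
  obtain ⟨z, hz⟩ := hmod (0, 1, 0)
  have e := hrel (0, 1, 0)
  rw [hz] at e
  have hU : U s ((0, 1, 0) : F × F × F) = ((0, 1, 0) : F × F × F) + za 2 := by
    simp [U_apply, za, hs1]
  rw [hU, X.add _ k.2, hz, hneg 2] at e
  have e1 := congrArg Prod.fst e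
  simp [U_apply, za] at e1
  have h4 : (2 : F) * 2 = 0 := by linear_combination e1
  rcases mul_eq_zero.1 h4 with h | h <;> exact X.two_ne h

theorem c_ne {g : Γ} (hg : g ∉ (St Γ)) {a : F} (ha : a ≠ 0) : ((g : Perm (F × F × F)) (za a)).2.2 ≠ 0 :=
  fun h => hg (X.mem_of_meet_base ha (b := ((g : Perm (F × F × F)) (za a)).1)
    (Prod.ext rfl (Prod.ext (X.no_plane ha h) h)))

theorem zero_mid {g : Γ} : ((g : Perm (F × F × F)) (za 0)).2.1 = 0 := by
  rw [show za (0 : F) = 0 from rfl, X.map_zero g.2]; rfl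

/-- The fixed points of the involution are the conjugates inside its centralizer. -/
theorem fixed_iff (g : Γ) : X.tG (-1) • (g : Γ ⧸ (St Γ)) = g ↔
    ∀ a, ((g : Perm (F × F × F)) (za a)).2.1 = 0 := by
  constructor
  · intro h a
    have h' : ((X.tG (-1) * g : Γ) : Γ ⧸ (St Γ)) = (g : Γ ⧸ (St Γ)) := h
    have hm := (QuotientGroup.eq.1 h'.symm) a
    obtain ⟨b, hb⟩ := hm
    have hb' : T (-1) ((g : Perm (F × F × F)) (za a)) = (g : Perm (F × F × F)) (za b) := by
      have := congrArg (g : Perm (F × F × F)) hb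
      simpa [tG] using this
    rw [T_apply] at hb'
    by_cases hab : a = b
    · rw [← hab] at hb'
      have e := congrArg (fun v : F × F × F => v.2.1) hb'
      simp only [Units.val_neg, Units.val_one] at e
      have : 2 * ((g : Perm (F × F × F)) (za a)).2.1 = 0 := by linear_combination -e
      exact (mul_eq_zero.1 this).resolve_left X.two_ne
    · have hd := X.map_sub g.2 (za a) (za b)
      rw [← X.za_sub, ← hb'] at hd
      have hc0 : ((g : Perm (F × F × F)) (za (a - b))).2.2 = 0 := by rw [hd]; simp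
      have := X.no_plane (sub_ne_zero.2 hab) hc0
      rw [hd] at this
      simp only [Prod.snd_sub, Prod.fst_sub, Units.val_neg, Units.val_one] at this
      have h2 : 2 * ((g : Perm (F × F × F)) (za a)).2.1 = 0 := by linear_combination this
      exact (mul_eq_zero.1 h2).resolve_left X.two_ne
  · intro h
    show ((X.tG (-1) * g : Γ) : Γ ⧸ (St Γ)) = (g : Γ ⧸ (St Γ))
    refine X.coset_eq_of_meet (a := 1) (a' := 1) one_ne_zero ?_
    rw [Subgroup.coe_mul, Equiv.Perm.mul_apply]
    show T (-1) _ = _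
    rw [T_apply]
    refine Prod.ext rfl (Prod.ext ?_ ?_)
    · rw [h 1]; simp
    · simp

end Ctx

end Cfsg.Agent.SymSquare
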