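import Cfsg.Agent.Lib.SymSquare.Count

/-!
The orbit of the first line has `q + 1` members.
-/

set_option autoImplicit false
set_option linter.all false

namespace Cfsg.Agent.SymSquare

open Equiv (Perm)

universe u

variable {F : Type u} [Field F] [Finite F] {p : ℕ} {Γ : Subgroup (Perm (F × F × F))}

/-- The point of the first line. -/
def base (Γ : Subgroup (Perm (F × F × F))) : Γ ⧸ St Γ := ((1 : Γ) : Γ ⧸ St Γ)

theorem coset_eq_base {g : Γ} : (g : Γ ⧸ St Γ) = base Γ ↔ g ∈ St Γ := by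
  rw [base, QuotientGroup.eq, mul_one, inv_mem_iff]

/-- An element maps the first line to the third one. -/
def IsLast (g : Γ) : Prop :=
  ∀ a, ((g : Perm (F × F × F)) (za a)).1 = 0 ∧ ((g : Perm (F × F × F)) (za a)).2.1 = 0

namespace Ctx

variable (X : Ctx p Γ)

include X

theorem base_fixed : X.tG (-1) • base Γ = base Γ := by
  show ((X.tG (-1) * 1 : Γ) : Γ ⧸ St Γ) = base Γ
  rw [mul_one]
  exact coset_eq_base.2 (X.tG_mem _)

theorem fixed_of_mid {g : Γ} {a : F} (ha : a ≠ 0) (h : ((g : Perm (F × F × F)) (za a)).2.1 = 0) :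
    X.tG (-1) • (g : Γ ⧸ St Γ) = g := by
  show ((X.tG (-1) * g : Γ) : Γ ⧸ St Γ) = (g : Γ ⧸ St Γ)
  refine X.coset_eq_of_meet ha (a' := a) ?_
  rw [Subgroup.coe_mul, Equiv.Perm.mul_apply]
  show T (-1) _ = _
  rw [T_apply]
  refine Prod.ext rfl (Prod.ext ?_ ?_)
  · rw [h]; simp
  · simp

/-- Fixed points other than the first line. -/
abbrev Fx : Type u := {w : Γ ⧸ St Γ // w ≠ base Γ ∧ X.tG (-1) • w = w}

/-- Each point other than the first line is a translate of exactly one fixed point. -/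
noncomputable def translate : X.Fx × F → {w : Γ ⧸ St Γ // w ≠ base Γ} := fun x =>
  ⟨X.uG x.2 • x.1.1, fun e => x.1.2.1 (by
    have h := congrArg (fun w => (X.uG x.2)⁻¹ • w) e
    simp only [inv_smul_smul] at h
    rw [h]
    show (((X.uG x.2)⁻¹ * 1 : Γ) : Γ ⧸ St Γ) = base Γ
    rw [mul_one]
    exact coset_eq_base.2 (inv_mem (X.uG_mem _)))⟩

theorem translate_zero {w w' : Γ ⧸ St Γ} (hw : w ≠ base Γ) (hwf : X.tG (-1) • w = w)
    (hwf' : X.tG (-1) • w' = w') {s : F} (h : X.uG s • w = w') : s = 0 := by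
  induction w using QuotientGroup.induction_on with
  | H g =>
    induction w' using QuotientGroup.induction_on with
    | H g' =>
      have hg : g ∉ St Γ := fun e => hw (coset_eq_base.2 e)
      have hc := X.c_ne hg one_ne_zero
      have h' : ((X.uG s * g : Γ) : Γ ⧸ St Γ) = (g' : Γ ⧸ St Γ) := h
      obtain ⟨b, hb⟩ := (QuotientGroup.eq.1 h') (1 : F)
      have hb' : U s ((g : Perm (F × F × F)) (za b)) = (g' : Perm (F × F × F)) (za 1) := by
        have := congrArg ((X.uG s * g : Γ) : Perm (F × F × F)) hb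
        simpa [uG, perm_ai] using this.symm
      have hb0 : b ≠ 0 := fun e => by
        rw [e, show za (0 : F) = 0 from rfl, X.map_zero g.2] at hb'
        refine X.za_ne (one_ne_zero (α := F)) ((g' : Perm (F × F × F)).injective ?_)
        rw [← hb', X.map_zero g'.2, X.map_zero (X.u_mem s)]
      have e := congrArg (fun v : F × F × F => v.2.1) hb'
      simp only [U_apply, (X.fixed_iff g).1 hwf, (X.fixed_iff g').1 hwf', zero_add] at e
      exact (mul_eq_zero.1 e).resolve_right (X.c_ne hg hb0)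

theorem translate_bijective : Function.Bijective X.translate := by
  constructor
  · rintro ⟨w, s⟩ ⟨w', r⟩ e
    have h : X.uG s • w.1 = X.uG r • w'.1 := congrArg Subtype.val e
    have h1 : X.uG (-r + s) • w.1 = w'.1 := by
      rw [X.uG_add, mul_smul, h, ← mul_smul, ← X.uG_add, neg_add_cancel, X.uG_zero, one_smul]
    have h0 := X.translate_zero w.2.1 w.2.2 w'.2.2 h1
    have hsr : s = r := by linear_combination h0
    subst hsr
    rw [neg_add_cancel, X.uG_zero, one_smul] at h1
    exact Prod.ext (Subtype.ext h1) rfl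
  · rintro ⟨w, hw⟩
    induction w using QuotientGroup.induction_on with
    | H g =>
      have hg : g ∉ St Γ := fun e => hw (coset_eq_base.2 e)
      set x := (g : Perm (F × F × F)) (za 1) with hx
      set s := -(x.2.1 / x.2.2) with hs
      have hne : ((X.uG s * g : Γ) : Γ ⧸ St Γ) ≠ base Γ := fun e =>
        hg ((Subgroup.mul_mem_cancel_left _ (X.uG_mem s)).1 (coset_eq_base.1 e))
      have hf : X.tG (-1) • ((X.uG s * g : Γ) : Γ ⧸ St Γ) = ((X.uG s * g : Γ) : Γ ⧸ St Γ) := by
        refine X.fixed_of_mid one_ne_zero ?_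
        show (U s x).2.1 = 0
        rw [U_apply, hs]
        have := X.c_ne hg one_ne_zero
        rw [← hx] at this
        field_simp
        ring
      refine ⟨(⟨_, hne, hf⟩, -s), Subtype.ext ?_⟩
      show ((X.uG (-s) * (X.uG s * g) : Γ) : Γ ⧸ St Γ) = g
      rw [← mul_assoc, ← X.uG_add, neg_add_cancel, X.uG_zero, one_mul]

theorem card_points : Nat.card (Γ ⧸ St Γ) = 1 + Nat.card X.Fx * Nat.card F := by
  classical
  haveI := Fintype.ofFinite (Γ ⧸ St Γ)
  rw [← Nat.card_prod, Nat.card_eq_of_bijective _ X.translate_bijective, Nat.card_eq_fintype_card,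
    Nat.card_eq_fintype_card, Fintype.card_subtype_compl, Fintype.card_subtype_eq]
  have : 1 ≤ Fintype.card (Γ ⧸ St Γ) := Fintype.card_pos_iff.2 ⟨base Γ⟩
  omega

/-- The centralizer of the involution. -/
def Cent : Subgroup Γ := Subgroup.centralizer {X.tG (-1)}

theorem mem_Cent {g : Γ} : g ∈ X.Cent ↔ g * X.tG (-1) = X.tG (-1) * g := by
  rw [Cent, Subgroup.mem_centralizer_singleton_iff]

theorem orbit_iff (w : Γ ⧸ St Γ) : w ∈ MulAction.orbit X.Cent (base Γ) ↔ X.tG (-1) • w = w := by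
  constructor
  · rintro ⟨c, rfl⟩
    show X.tG (-1) • (c : Γ) • base Γ = (c : Γ) • base Γ
    rw [← mul_smul, ← X.mem_Cent.1 c.2, mul_smul, X.base_fixed]
  · intro hw
    induction w using QuotientGroup.induction_on with
    | H g =>
      have hmid := (X.fixed_iff g).1 hw 1
      set k : Γ := g⁻¹ * X.tG (-1) * g with hk
      have hka : (k : Perm (F × F × F)) (za 1) = za 1 := by
        simp only [hk, tG, Subgroup.coe_mul, Subgroup.coe_inv, Equiv.Perm.mul_apply, T_apply, hmid]
        rw [Equiv.Perm.inv_eq_iff_eq]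
        refine Prod.ext rfl (Prod.ext ?_ ?_) <;> simp [hmid]
      have hk2 : (k : Perm (F × F × F)) * k = 1 := by
        rw [← Subgroup.coe_mul, ← Subgroup.coe_one Γ]
        congr 1
        rw [hk]
        calc g⁻¹ * X.tG (-1) * g * (g⁻¹ * X.tG (-1) * g) = g⁻¹ * (X.tG (-1) * X.tG (-1)) * g := by group
          _ = 1 := by rw [show X.tG (-1) * X.tG (-1) = 1 from Subtype.ext X.t_sq, mul_one, inv_mul_cancel]
      have hk1 : (k : Perm (F × F × F)) ≠ 1 := fun e => X.t_ne (by
        have : k = 1 := Subtype.ext e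
        rw [hk, mul_assoc, inv_mul_eq_one, eq_comm, mul_eq_right] at this
        exact congrArg Subtype.val this)
      obtain ⟨r, hr⟩ := X.invol_of_fix k.2 hk2 hk1 one_ne_zero hka
      have hr' : k = X.uG r * X.tG (-1) * X.uG (-r) := Subtype.ext hr
      have hc : g * X.uG r ∈ X.Cent := by
        rw [X.mem_Cent]
        calc g * X.uG r * X.tG (-1) = g * (X.uG r * X.tG (-1) * X.uG (-r)) * X.uG r := by
              rw [show X.uG (-r) = (X.uG r)⁻¹ from (X.uG_inv r).symm]; group
          _ = g * k * X.uG r := by rw [hr']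
          _ = X.tG (-1) * (g * X.uG r) := by rw [hk]; group
      refine ⟨⟨_, hc⟩, ?_⟩
      show ((g * X.uG r * 1 : Γ) : Γ ⧸ St Γ) = g
      rw [mul_one]
      exact (QuotientGroup.eq.2 (by rw [inv_mul_cancel_left]; exact X.uG_mem r)).symm

theorem card_fixed : Nat.card {w : Γ ⧸ St Γ // X.tG (-1) • w = w} = Nat.card X.Fx + 1 := by
  classical
  haveI := Fintype.ofFinite (Γ ⧸ St Γ)
  rw [Nat.card_eq_fintype_card, Nat.card_eq_fintype_card, Fintype.card_subtype, Fintype.card_subtype]
  rw [← Finset.card_insert_of_notMem (a := base Γ) (s := Finset.univ.filter fun w => w ≠ base Γ ∧ X.tG (-1) • w = w)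
    (by simp)]
  congr 1
  ext w
  by_cases h : w = base Γ <;> simp [h, X.base_fixed]

theorem card_cent : Nat.card X.Cent = (Nat.card X.Fx + 1) * Nat.card ((St Γ).subgroupOf X.Cent) := by
  rw [← X.card_fixed, ← Subgroup.card_mul_index ((St Γ).subgroupOf X.Cent), mul_comm]
  congr 1
  have h : MulAction.stabilizer X.Cent (base Γ) = (St Γ).subgroupOf X.Cent := by
    ext c
    rw [MulAction.mem_stabilizer_iff, Subgroup.mem_subgroupOf]
    show (((c : Γ) * 1 : Γ) : Γ ⧸ St Γ) = base Γ ↔ _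
    rw [mul_one, coset_eq_base]
  rw [← h, MulAction.index_stabilizer, ← Nat.card_coe_set_eq]
  exact Nat.card_congr (Equiv.subtypeEquivRight fun w => X.orbit_iff w)

theorem card_St : Nat.card (St Γ) = Nat.card F * Nat.card ((St Γ).subgroupOf X.Cent) := by
  rw [← Nat.card_prod]
  symm
  refine Nat.card_eq_of_bijective (fun x => (⟨X.uG x.1 * (x.2 : X.Cent).1, mul_mem (X.uG_mem _) x.2.2⟩ : St Γ))
    ⟨?_, ?_⟩
  · rintro ⟨s, c⟩ ⟨r, c'⟩ e
    have e' : X.uG s * ((c : X.Cent) : Γ) = X.uG r * ((c' : X.Cent) : Γ) := congrArg Subtype.val e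
    have h1 : X.uG (-r + s) ∈ X.Cent := by
      have : X.uG (-r + s) = ((c' : X.Cent) : Γ) * ((c : X.Cent) : Γ)⁻¹ := by
        rw [X.uG_add, ← X.uG_inv, eq_mul_inv_iff_mul_eq, mul_assoc, e', inv_mul_cancel_left]
      rw [this]
      exact mul_mem (c' : X.Cent).2 (inv_mem (c : X.Cent).2)
    have h2 := congrArg Subtype.val (X.mem_Cent.1 h1)
    simp only [uG, tG, Subgroup.coe_mul] at h2
    rw [t_conj_U, mul_left_inj] at h2
    have h3 := X.uG_inj (Subtype.ext h2 : X.uG (-r + s) = X.uG (-(-r + s)))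
    have h4 : 2 * (s - r) = 0 := by linear_combination h3
    have hsr : s = r := sub_eq_zero.1 ((mul_eq_zero.1 h4).resolve_left X.two_ne)
    subst hsr
    exact Prod.ext rfl (Subtype.ext (Subtype.ext (mul_left_cancel e')))
  · rintro ⟨g, hg⟩
    obtain ⟨b, hb⟩ := hg 1
    have hbne : b ≠ 0 := fun e => X.za_ne (one_ne_zero (α := F)) ((g : Perm (F × F × F)).injective (by
      rw [hb, e, X.map_zero g.2]; rfl))
    set k : Γ := g * X.tG (-1) * g⁻¹ with hk
    have hkb : (k : Perm (F × F × F)) (za b) = za b := by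
      simp only [hk, tG, Subgroup.coe_mul, Subgroup.coe_inv, Equiv.Perm.mul_apply]
      rw [← hb, perm_ia, T_za]
    have hk2 : (k : Perm (F × F × F)) * k = 1 := by
      rw [← Subgroup.coe_mul, ← Subgroup.coe_one Γ]
      congr 1
      rw [hk]
      calc g * X.tG (-1) * g⁻¹ * (g * X.tG (-1) * g⁻¹) = g * (X.tG (-1) * X.tG (-1)) * g⁻¹ := by group
        _ = 1 := by rw [show X.tG (-1) * X.tG (-1) = 1 from Subtype.ext X.t_sq, mul_one, mul_inv_cancel]
    have hk1 : (k : Perm (F × F × F)) ≠ 1 := fun e => X.t_ne (by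
      have : k = 1 := Subtype.ext e
      rw [hk, mul_inv_eq_one, mul_eq_left] at this
      exact congrArg Subtype.val this)
    obtain ⟨r, hr⟩ := X.invol_of_fix k.2 hk2 hk1 hbne hkb
    have hr' : k = X.uG r * X.tG (-1) * X.uG (-r) := Subtype.ext hr
    have hc : X.uG (-r) * g ∈ X.Cent := by
      rw [X.mem_Cent]
      calc X.uG (-r) * g * X.tG (-1) = X.uG (-r) * k * g := by rw [hk]; group
        _ = X.uG (-r) * (X.uG r * X.tG (-1) * X.uG (-r)) * g := by rw [hr']
        _ = X.tG (-1) * (X.uG (-r) * g) := by rw [← X.uG_inv]; group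
    refine ⟨(r, ⟨⟨_, hc⟩, mul_mem (X.uG_mem _) hg⟩), Subtype.ext ?_⟩
    show X.uG r * (X.uG (-r) * g) = g
    rw [← mul_assoc, ← X.uG_add, add_neg_cancel, X.uG_zero, one_mul]

theorem p_not_dvd_cent : ¬ p ∣ Nat.card X.Cent := by
  classical
  haveI := X.char
  haveI := Fact.mk X.prime
  intro hd
  obtain ⟨g, hg⟩ := exists_prime_orderOf_dvd_card' p hd
  set P := Subgroup.zpowers ((g : X.Cent) : Γ) with hP
  have hord : orderOf ((g : X.Cent) : Γ) = p := by rw [Subgroup.orderOf_coe, hg]
  have hPp : IsPGroup p P := IsPGroup.of_card (n := 1) (by rw [Nat.card_zpowers, hord, pow_one])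
  haveI := Fintype.ofFinite F
  have hq : p ∣ Nat.card F := by
    obtain ⟨n, hn1, hn2⟩ := FiniteField.card F p
    rw [Nat.card_eq_fintype_card, hn2]
    exact dvd_pow_self p n.ne_zero
  -- a fixed point
  obtain ⟨w0, hw0⟩ : ∃ w : Γ ⧸ St Γ, ((g : X.Cent) : Γ) • w = w := by
    by_contra hno
    push Not at hno
    have h := hPp.card_modEq_card_fixedPoints (Γ ⧸ St Γ)
    have h0 : Nat.card (MulAction.fixedPoints P (Γ ⧸ St Γ)) = 0 := by
      rw [Nat.card_eq_zero]
      exact Or.inl ⟨fun w => hno w.1 (w.2 ⟨_, Subgroup.mem_zpowers _⟩)⟩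
    rw [h0, X.card_points, Nat.modEq_zero_iff_dvd] at h
    have := (Nat.dvd_add_left (hq.mul_left _)).1 h
    exact X.prime.not_dvd_one this
  -- conjugates of `g` into the stabilizer are translations
  have key : ∀ g0 : Γ, ((g : X.Cent) : Γ) • (g0 : Γ ⧸ St Γ) = g0 →
      ∃ s, g0⁻¹ * ((g : X.Cent) : Γ) * g0 = X.uG s := by
    intro g0 hg0
    have h' : ((((g : X.Cent) : Γ) * g0 : Γ) : Γ ⧸ St Γ) = g0 := hg0
    set k := g0⁻¹ * ((g : X.Cent) : Γ) * g0 with hk
    have hkS : k ∈ St Γ := by rw [hk, mul_assoc]; exact QuotientGroup.eq.1 h'.symm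
    choose f hf using hkS
    have hkp : k ^ p = 1 := by
      have h1 := conj_pow (i := p) (a := g0⁻¹) (b := ((g : X.Cent) : Γ))
      rw [inv_inv] at h1
      rw [hk, h1, show ((g : X.Cent) : Γ) ^ p = 1 from orderOf_dvd_iff_pow_eq_one.1 hord.dvd, mul_one, inv_mul_cancel]
    have hfk : ∀ (j : ℕ) (a : F), ((k : Perm (F × F × F)) ^ j) (za a) = za (f^[j] a) := by
      intro j a
      induction j with
      | zero => rfl
      | succ j ih => rw [pow_succ', Equiv.Perm.mul_apply, ih, hf, Function.iterate_succ_apply']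
    let f' : Function.End F := f
    have hfp : f'^[p ^ 1] = id := funext fun a => za_injective (by
      rw [pow_one]
      exact (hfk p a).symm.trans (by rw [← SubmonoidClass.coe_pow, hkp, Subgroup.coe_one, Equiv.Perm.one_apply]; rfl))
    haveI := Fintype.ofFinite F
    have hmod := Equiv.Perm.card_fixedPoints_modEq (f := f') (p := p) (n := 1) hfp
    obtain ⟨a, ha, hfa⟩ : ∃ a, a ≠ 0 ∧ f a = a := by
      by_contra hno
      push Not at hno
      have h1 : Fintype.card (Function.fixedPoints f') = 1 := by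
        rw [Fintype.card_eq_one_iff]
        refine ⟨⟨0, za_injective ((hf 0).symm.trans (X.map_zero k.2))⟩, fun ⟨a, ha⟩ => Subtype.ext ?_⟩
        by_contra h0
        exact hno a h0 ha
      rw [show Fintype.card (Function.fixedPoints f') = 1 by convert h1, ← Nat.card_eq_fintype_card] at hmod
      have h01 : (0 : ℕ) ≡ 1 [MOD p] := (Nat.modEq_zero_iff_dvd.2 hq).symm.trans hmod
      exact X.prime.not_dvd_one (Nat.modEq_zero_iff_dvd.1 h01.symm)
    obtain ⟨s, hs⟩ := X.unip_of_fix k.2 (k := 1)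
      (by rw [pow_one, ← SubmonoidClass.coe_pow, hkp, Subgroup.coe_one]) ha (by rw [hf, hfa])
    exact ⟨s, Subtype.ext hs⟩
  obtain ⟨g1, rfl⟩ := QuotientGroup.mk_surjective w0
  obtain ⟨s, hs⟩ := key g1 hw0
  have hs0 : s ≠ 0 := fun e => by
    rw [e, X.uG_zero, mul_assoc, inv_mul_eq_one, eq_comm, mul_eq_right] at hs
    rw [hs, orderOf_one] at hord
    exact X.prime.ne_one hord.symm
  -- the fixed point is unique, hence fixed by the involution
  have huniq : ∀ w : Γ ⧸ St Γ, ((g : X.Cent) : Γ) • w = w → w = g1 := by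
    intro w hw
    set v := g1⁻¹ • w with hv
    have hvs : X.uG s • v = v := by
      rw [hv, ← hs, ← mul_smul, mul_assoc, mul_assoc, mul_inv_cancel, mul_one, mul_smul, hw]
    by_cases hvb : v = base Γ
    · have : w = g1 • v := by rw [hv, smul_inv_smul]
      rw [this, hvb]
      show ((g1 * 1 : Γ) : Γ ⧸ St Γ) = g1
      rw [mul_one]
    · exfalso
      obtain ⟨⟨u, r⟩, hur⟩ := X.translate_bijective.2 ⟨v, hvb⟩
      have hur' : X.uG r • u.1 = v := congrArg Subtype.val hur
      have h2 : X.translate (u, s + r) = X.translate (u, r) := Subtype.ext (by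
        show X.uG (s + r) • u.1 = X.uG r • u.1
        rw [X.uG_add, mul_smul, hur', hvs])
      exact hs0 (add_eq_right.1 (congrArg Prod.snd (X.translate_bijective.1 h2)))
  have hfix : X.tG (-1) • (g1 : Γ ⧸ St Γ) = g1 := huniq _ (by
    rw [← mul_smul, X.mem_Cent.1 (g : X.Cent).2, mul_smul, hw0])
  obtain ⟨c, hc⟩ := (X.orbit_iff _).2 hfix
  have hc0 : ((c : Γ) : Γ ⧸ St Γ) = g1 := by
    rw [← hc]
    show _ = (((c : Γ) * 1 : Γ) : Γ ⧸ St Γ)
    rw [mul_one]
  obtain ⟨s', hs'⟩ := key (c : Γ) (by rw [hc0, hw0])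
  have hmem : X.uG s' ∈ X.Cent := hs' ▸ mul_mem (mul_mem (inv_mem c.2) (g : X.Cent).2) c.2
  have h2 := congrArg Subtype.val (X.mem_Cent.1 hmem)
  simp only [uG, tG, Subgroup.coe_mul] at h2
  rw [t_conj_U, mul_left_inj] at h2
  have h3 := X.uG_inj (Subtype.ext h2 : X.uG s' = X.uG (-s'))
  have h4 : 2 * s' = 0 := by linear_combination h3
  rw [(mul_eq_zero.1 h4).resolve_left X.two_ne, X.uG_zero, mul_assoc, inv_mul_eq_one, eq_comm, mul_eq_right] at hs'
  rw [hs', orderOf_one] at hord
  exact X.prime.ne_one hord.symm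

theorem fx_dvd : (Nat.card X.Fx + 1) ∣ Nat.card F - 1 := by
  haveI := X.char
  haveI := Fact.mk X.prime
  set f := Nat.card X.Fx + 1 with hf
  obtain ⟨d, hd⟩ := Subgroup.card_subgroup_dvd_card X.Cent
  have h := (St Γ).card_mul_index
  rw [Subgroup.index_eq_card, X.card_points, X.card_St, hd, X.card_cent, ← hf] at h
  have hpos : 0 < Nat.card ((St Γ).subgroupOf X.Cent) := Nat.card_pos
  have h2 : Nat.card F * (1 + Nat.card X.Fx * Nat.card F) = f * d := by
    refine Nat.eq_of_mul_eq_mul_left hpos ?_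
    linear_combination h
  have hcop : Nat.Coprime f (Nat.card F) := by
    haveI := Fintype.ofFinite F
    obtain ⟨n, hn1, hn2⟩ := FiniteField.card F p
    rw [Nat.card_eq_fintype_card (α := F), hn2]
    refine Nat.Coprime.pow_right _ ((X.prime.coprime_iff_not_dvd.2 fun hp => X.p_not_dvd_cent ?_).symm)
    rw [X.card_cent, ← hf]
    exact hp.mul_right _
  have h3 : f ∣ 1 + Nat.card X.Fx * Nat.card F := hcop.dvd_of_dvd_mul_left ⟨d, h2⟩
  have h4 : (1 + Nat.card X.Fx * Nat.card F) + (Nat.card F - 1) = f * Nat.card F := by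
    have := Nat.card_pos (α := F)
    rw [hf, add_mul, one_mul]
    omega
  exact (Nat.dvd_add_right h3).1 ⟨Nat.card F, h4⟩

/-- The squares, acting on the fixed points. -/
def sq (Γ : Subgroup (Perm (F × F × F))) : Subgroup Fˣ := (powMonoidHom 2 : Fˣ →* Fˣ).range

theorem units_card : Nat.card Fˣ = Nat.card F - 1 := Nat.card_units F

theorem sq_ne_neg (v : Fˣ) (hv : v ∈ sq Γ) : v ≠ -1 := by
  classical
  haveI := Fintype.ofFinite F
  rintro rfl
  obtain ⟨u, hu⟩ := hv
  have hs : IsSquare (-1 : F) := ⟨(u : F), by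
    have := congrArg Units.val hu
    simpa [pow_two] using this.symm⟩
  rw [FiniteField.isSquare_neg_one_iff, ← Nat.card_eq_fintype_card] at hs
  exact hs X.mod_four

theorem card_sq : 2 * Nat.card (sq Γ) = Nat.card F - 1 := by
  classical
  have hker : Nat.card (powMonoidHom 2 : Fˣ →* Fˣ).ker = 2 := by
    have h1 : (powMonoidHom 2 : Fˣ →* Fˣ).ker = Subgroup.zpowers (-1 : Fˣ) := by
      ext u
      rw [MonoidHom.mem_ker, powMonoidHom_apply]
      constructor
      · intro h
        have h' : (u : F) * u = 1 := by rw [← Units.val_mul, ← pow_two, h]; rfl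
        rcases mul_self_eq_one_iff.1 h' with e | e
        · rw [show u = 1 from Units.ext e]; exact one_mem _
        · rw [show u = -1 from Units.ext (by rw [e]; simp)]; exact Subgroup.mem_zpowers _
      · rintro ⟨n, rfl⟩
        rw [← zpow_natCast, ← zpow_mul, mul_comm, zpow_mul, zpow_natCast]
        simp
    rw [h1, Nat.card_zpowers]
    refine orderOf_eq_prime (by simp) fun h => X.two_ne ?_
    have := congrArg Units.val h
    simp at this
    linear_combination -this
  rw [← X.units_card, ← (powMonoidHom 2 : Fˣ →* Fˣ).ker.card_mul_index, hker, Subgroup.index_ker]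
  rfl

theorem last_unique {g g' : Γ} (h : IsLast g) (h' : IsLast g') : (g : Γ ⧸ St Γ) = g' := by
  have surj : ∀ g : Γ, IsLast g → ∃ a, a ≠ 0 ∧ (g : Perm (F × F × F)) (za a) = (0, 0, 1) := by
    intro g hg
    have hinj : Function.Injective fun a => ((g : Perm (F × F × F)) (za a)).2.2 := fun a b e =>
      za_injective ((g : Perm (F × F × F)).injective
        (Prod.ext (by rw [(hg a).1, (hg b).1]) (Prod.ext (by rw [(hg a).2, (hg b).2]) e)))
    obtain ⟨a, ha⟩ := (Finite.injective_iff_surjective.1 hinj) 1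
    refine ⟨a, fun e => ?_, Prod.ext (hg a).1 (Prod.ext (hg a).2 ha)⟩
    rw [e] at ha
    simp [show za (0 : F) = 0 from rfl, X.map_zero g.2] at ha
  obtain ⟨a, ha, e⟩ := surj g h
  obtain ⟨b, -, e'⟩ := surj g' h'
  exact X.coset_eq_of_meet ha (e.trans e'.symm)

theorem tsmul_fx {l : Fˣ} {w : Γ ⧸ St Γ} (h : w ≠ base Γ ∧ X.tG (-1) • w = w) :
    X.tG l • w ≠ base Γ ∧ X.tG (-1) • (X.tG l • w) = X.tG l • w := by
  refine ⟨fun e => h.1 ?_, ?_⟩
  · have e' := congrArg (fun w => (X.tG l)⁻¹ • w) e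
    simp only [inv_smul_smul] at e'
    rw [e']
    show (((X.tG l)⁻¹ * 1 : Γ) : Γ ⧸ St Γ) = base Γ
    rw [mul_one]
    exact coset_eq_base.2 (inv_mem (X.tG_mem _))
  · have hc : X.tG (-1) * X.tG l = X.tG l * X.tG (-1) := Subtype.ext (by
      show T (-1) * T l = T l * T (-1)
      rw [← T_mul, ← T_mul, mul_comm])
    rw [← mul_smul, hc, mul_smul, h.2]

/-- The square classes act freely away from the third line. -/
theorem free {g : Γ} (hb : g ∉ St Γ) (hf : X.tG (-1) • (g : Γ ⧸ St Γ) = g) (v : Fˣ) (h1 : v ≠ 1) (h2 : v ≠ -1)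
    (hv : X.tG v • (g : Γ ⧸ St Γ) = g) : IsLast g := by
  have h' : ((X.tG v * g : Γ) : Γ ⧸ St Γ) = g := hv
  have hmid := (X.fixed_iff g).1 hf
  choose f hfa using QuotientGroup.eq.1 h'.symm
  have key : ∀ a, ∃ b, (g : Perm (F × F × F)) (za b) =
      (0, 0, ((v : F) * v - 1) * ((g : Perm (F × F × F)) (za a)).2.2) := by
    intro a
    refine ⟨f a - a, ?_⟩
    have e : T v ((g : Perm (F × F × F)) (za a)) = (g : Perm (F × F × F)) (za (f a)) := by
      have := congrArg (g : Perm (F × F × F)) (hfa a)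
      simpa [tG, perm_ai] using this
    rw [X.za_sub, X.map_sub g.2, ← e, T_apply, hmid a]
    refine Prod.ext ?_ (Prod.ext ?_ ?_) <;> simp [hmid a] <;> ring
  choose δ hδ using key
  have hne : (v : F) * v - 1 ≠ 0 := fun e => by
    rcases mul_self_eq_one_iff.1 (sub_eq_zero.1 e) with e | e
    · exact h1 (Units.ext e)
    · exact h2 (Units.ext (by rw [e]; simp))
  have hinj : Function.Injective δ := fun a b e => by
    have := hδ a
    rw [e, hδ b] at this
    have hc := mul_left_cancel₀ hne (congrArg (fun x : F × F × F => x.2.2) this)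
    by_contra hab
    refine X.c_ne hb (sub_ne_zero.2 hab) ?_
    rw [X.za_sub, X.map_sub g.2]
    show _ - _ = _
    rw [hc, sub_self]
  intro a
  obtain ⟨a', rfl⟩ := (Finite.injective_iff_surjective.1 hinj) a
  rw [hδ]
  exact ⟨rfl, rfl⟩

theorem one_le_fx : 1 ≤ Nat.card X.Fx := by
  classical
  haveI := X.char
  haveI := Fact.mk X.prime
  obtain ⟨g, hg, ⟨k, hk⟩, hne⟩ := X.move
  by_contra h
  have hn : Nat.card X.Fx = 0 := by omega
  have hone : ∀ γ : Γ, γ ∈ St Γ := by
    intro γ
    rw [← coset_eq_base]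
    have h1 := X.card_points
    rw [hn, zero_mul, add_zero] at h1
    exact (Nat.card_eq_one_iff_unique.1 h1).1.elim _ _
  set γ : Γ := ⟨g, hg⟩ with hγ
  choose f hf using hone γ
  have hfk : ∀ (j : ℕ) (a : F), ((γ : Perm (F × F × F)) ^ j) (za a) = za (f^[j] a) := by
    intro j a
    induction j with
    | zero => rfl
    | succ j ih => rw [pow_succ', Equiv.Perm.mul_apply, ih, hf, Function.iterate_succ_apply']
  let f' : Function.End F := f
  have hfp : f'^[p ^ k] = id := funext fun a => za_injective (by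
    refine (hfk (p ^ k) a).symm.trans ?_
    show (g ^ p ^ k) (za a) = za a
    rw [hk, Equiv.Perm.one_apply])
  haveI := Fintype.ofFinite F
  have hmod := Equiv.Perm.card_fixedPoints_modEq (f := f') (p := p) (n := k) hfp
  obtain ⟨a, ha, hfa⟩ : ∃ a, a ≠ 0 ∧ f a = a := by
    by_contra hno
    push Not at hno
    have h1 : Fintype.card (Function.fixedPoints f') = 1 := by
      rw [Fintype.card_eq_one_iff]
      refine ⟨⟨0, za_injective ((hf 0).symm.trans (X.map_zero γ.2))⟩, fun ⟨a, ha⟩ => Subtype.ext ?_⟩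
      by_contra h0
      exact hno a h0 ha
    rw [show Fintype.card (Function.fixedPoints f') = 1 by convert h1] at hmod
    have hq : p ∣ Fintype.card F := by
      obtain ⟨n, hn1, hn2⟩ := FiniteField.card F p
      rw [hn2]
      exact dvd_pow_self p n.ne_zero
    have h01 : (0 : ℕ) ≡ 1 [MOD p] := (Nat.modEq_zero_iff_dvd.2 hq).symm.trans hmod
    exact X.prime.not_dvd_one (Nat.modEq_zero_iff_dvd.1 h01.symm)
  obtain ⟨s, hs⟩ := X.unip_of_fix hg hk ha (by rw [show g = (γ : Perm (F × F × F)) from rfl, hf, hfa])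
  exact hne s hs

/-- There is exactly one more fixed point, and it is the third line unless the field has three elements. -/
theorem fx_eq_one : Nat.card X.Fx = 1 ∧ ((∀ l : Fˣ, l = 1 ∨ l = -1) ∨ ∃ g : Γ, IsLast g ∧ g ∉ St Γ) := by
  classical
  let Y := {w : X.Fx // ∀ g : Γ, (g : Γ ⧸ St Γ) = w.1 → ¬ IsLast g}
  let act : MulAction (sq Γ) Y :=
    { smul := fun v w => ⟨⟨X.tG (v : Fˣ) • w.1.1, X.tsmul_fx w.1.2⟩, fun g hg hl => by
        refine w.2 ((X.tG (v : Fˣ))⁻¹ * g) ?_ ?_
        · show (X.tG (v : Fˣ))⁻¹ • (g : Γ ⧸ St Γ) = w.1.1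
          rw [hg]
          exact inv_smul_smul _ _
        · intro a
          have h1 : (g : Perm (F × F × F)) (za a) = T (v : Fˣ)
              ((((X.tG (v : Fˣ))⁻¹ * g : Γ) : Perm (F × F × F)) (za a)) := by simp [tG, perm_ai]
          have h2 := hl a
          rw [h1, T_apply] at h2
          exact ⟨h2.1, (mul_eq_zero.1 h2.2).resolve_left (Units.ne_zero _)⟩⟩
      one_smul := fun w => Subtype.ext (Subtype.ext (by
        show X.tG ((1 : sq Γ) : Fˣ) • w.1.1 = w.1.1
        rw [show X.tG ((1 : sq Γ) : Fˣ) = 1 from Subtype.ext T_one, one_smul]))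
      mul_smul := fun v v' w => Subtype.ext (Subtype.ext (by
        show X.tG ((v * v' : sq Γ) : Fˣ) • w.1.1 = X.tG (v : Fˣ) • X.tG (v' : Fˣ) • w.1.1
        rw [← mul_smul]
        congr 1
        exact Subtype.ext (T_mul _ _))) }
  letI := act
  have hfree : ∀ w : Y, MulAction.stabilizer (sq Γ) w = ⊥ := by
    intro w
    rw [Subgroup.eq_bot_iff_forall]
    intro v hv
    obtain ⟨g, hg⟩ := QuotientGroup.mk_surjective w.1.1
    by_contra hv1
    have hb : g ∉ St Γ := fun e => w.1.2.1 (hg ▸ coset_eq_base.2 e)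
    have hfx : X.tG (-1) • (g : Γ ⧸ St Γ) = g := by rw [hg]; exact w.1.2.2
    refine w.2 g hg (X.free hb hfx (v : Fˣ) (fun e => hv1 (Subtype.ext e)) (X.sq_ne_neg _ v.2) ?_)
    rw [hg]
    exact congrArg (fun w : Y => w.1.1) (MulAction.mem_stabilizer_iff.1 hv)
  have hdvd : Nat.card (sq Γ) ∣ Nat.card Y := by
    rw [Nat.card_congr (MulAction.selfEquivOrbitsQuotientProd hfree), Nat.card_prod]
    exact dvd_mul_left _ _
  set d := Nat.card (sq Γ) with hd
  set f1 := Nat.card X.Fx with hf1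
  set y := Nat.card Y with hy
  have hle : y ≤ f1 := Nat.card_le_card_of_injective (fun w : Y => w.1) fun a b e => Subtype.ext e
  have hge : f1 ≤ y + 1 := by
    haveI := Fintype.ofFinite (Γ ⧸ St Γ)
    rw [hf1, hy, Nat.card_eq_fintype_card, Nat.card_eq_fintype_card, Fintype.card_subtype
      (fun w : X.Fx => ∀ g : Γ, (g : Γ ⧸ St Γ) = w.1 → ¬ IsLast g), ← Finset.card_univ,
      ← Finset.card_filter_add_card_filter_not (s := (Finset.univ : Finset X.Fx))
        (fun w : X.Fx => ∀ g : Γ, (g : Γ ⧸ St Γ) = w.1 → ¬ IsLast g)]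
    refine Nat.add_le_add_left (Finset.card_le_one.2 fun a ha b hb => ?_) _
    rw [Finset.mem_filter] at ha hb
    obtain ⟨-, ha2⟩ := ha
    obtain ⟨-, hb2⟩ := hb
    push Not at ha2 hb2
    obtain ⟨g, hg, hl⟩ := ha2
    obtain ⟨g', hg', hl'⟩ := hb2
    exact Subtype.ext (by rw [← hg, ← hg', X.last_unique hl hl'])
  have hdv := X.fx_dvd
  rw [← X.card_sq, ← hd, ← hf1] at hdv
  have h1 := X.one_le_fx
  have hodd : d % 2 = 1 := by
    have := X.card_sq
    have := X.mod_four
    omega
  obtain ⟨c, hc⟩ := hdvd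
  -- the arithmetic
  have hres : f1 = 1 ∧ (d = 1 ∨ y = 0) := by
    rcases Nat.eq_zero_or_pos c with hc0 | hc0
    · exact ⟨by subst hc0; rw [mul_zero] at hc; omega, Or.inr (by subst hc0; simpa using hc)⟩
    have hyd : d ≤ y := hc ▸ Nat.le_mul_of_pos_right d hc0
    obtain ⟨e, he⟩ := hdv
    have he1 : e = 1 := by
      rcases Nat.lt_or_ge e 2 with h | h
      · rcases Nat.eq_zero_or_pos e with h0 | h0
        · subst h0; omega
        · omega
      · nlinarith
    subst he1
    have hc1 : c = 1 := by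
      rcases Nat.lt_or_ge c 2 with h | h
      · omega
      · nlinarith
    subst hc1
    omega
  refine ⟨hres.1, ?_⟩
  rcases hres.2 with hd1 | hy0
  · left
    intro l
    have h2 := X.card_sq
    rw [← hd, hd1] at h2
    by_contra hl
    push Not at hl
    haveI := Fintype.ofFinite Fˣ
    have h3 : ({1, -1, l} : Finset Fˣ).card ≤ Nat.card Fˣ := by
      rw [Nat.card_eq_fintype_card]; exact Finset.card_le_univ _
    have hne : (1 : Fˣ) ≠ -1 := fun e => X.two_ne (by
      have := congrArg Units.val e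
      simp at this
      linear_combination this)
    rw [X.units_card, ← h2, Finset.card_insert_of_notMem (by simp [hne, Ne.symm hl.1]),
      Finset.card_pair (Ne.symm hl.2)] at h3
    omega
  · right
    haveI : IsEmpty Y := (Nat.card_eq_zero.1 hy0).resolve_right fun h => h.not_finite inferInstance
    obtain ⟨w⟩ : Nonempty X.Fx := (Nat.card_pos_iff.1 (by omega : 0 < Nat.card X.Fx)).1
    by_contra hno
    push Not at hno
    exact IsEmpty.false (⟨w, fun g hg hl => w.2.1 (hg ▸ coset_eq_base.2 (hno g hl))⟩ : Y)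

end Ctx

end Cfsg.Agent.SymSquare
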