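import Cfsg.Agent.Lib.SymSquare.Fixed

/-!
The group is conjugate to the symmetric square of the full `GL₂`.
-/

set_option autoImplicit false
set_option linter.all false

namespace Cfsg.Agent.SymSquare

open Equiv (Perm)

universe u

variable {F : Type u} [Field F] [Finite F] {p : ℕ} {Γ : Subgroup (Perm (F × F × F))}

/-- A shift of the first coordinate along the third. -/
def R (κ : F) : Perm (F × F × F) where
  toFun x := (x.1 + κ * x.2.2, x.2.1, x.2.2)
  invFun x := (x.1 - κ * x.2.2, x.2.1, x.2.2)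
  left_inv x := by simp
  right_inv x := by simp

omit [Finite F] in
theorem R_apply (κ : F) (x : F × F × F) : R κ x = (x.1 + κ * x.2.2, x.2.1, x.2.2) := rfl

omit [Finite F] in
theorem R_za (κ a : F) : R κ (za a) = za a := by simp [za, R_apply]

omit [Finite F] in
theorem R_inv_za (κ a : F) : (R κ)⁻¹ (za a) = za a := by
  rw [Equiv.Perm.inv_eq_iff_eq, R_za]

omit [Finite F] in
theorem R_zero : R (0 : F) = 1 := Equiv.ext fun x => by simp [R_apply]

omit [Finite F] in
theorem R_conj_U (κ s : F) : R κ * U s * (R κ)⁻¹ = U s := by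
  rw [mul_inv_eq_iff_eq_mul]
  refine Equiv.ext fun x => ?_
  simp only [Equiv.Perm.mul_apply, U_apply, R_apply, Prod.mk.injEq, and_true, true_and]
  ring

omit [Finite F] in
theorem R_conj_T {κ : F} (hκ : κ = 0 ∨ ∀ l : Fˣ, l = 1 ∨ l = -1) (l : Fˣ) :
    R κ * T l * (R κ)⁻¹ = T l := by
  rw [mul_inv_eq_iff_eq_mul]
  refine Equiv.ext fun x => ?_
  simp only [Equiv.Perm.mul_apply, T_apply, R_apply, Prod.mk.injEq, and_true, true_and]
  rcases hκ with rfl | hl
  · simp
  · rcases hl l with rfl | rfl <;> simp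

/-- Every element is a square or the negative of one. -/
theorem Ctx.square_or_neg (X : Ctx p Γ) {a : F} (ha : a ≠ 0) : IsSquare a ∨ IsSquare (-a) := by
  haveI := Fintype.ofFinite F
  have hF : ringChar F ≠ 2 := by
    haveI := X.char
    rw [ringChar.eq F p]
    exact X.odd
  have hodd : Odd (Fintype.card F / 2) := by
    have h := X.mod_four
    rw [Nat.card_eq_fintype_card] at h
    rw [Nat.odd_iff]
    omega
  rcases FiniteField.pow_dichotomy hF ha with h | h
  · exact Or.inl ((FiniteField.isSquare_iff hF ha).2 h)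
  · exact Or.inr ((FiniteField.isSquare_iff hF (neg_ne_zero.2 ha)).2 (by rw [hodd.neg_pow, h, neg_neg]))

/-- The conjugate group. -/
def shifted (Γ : Subgroup (Perm (F × F × F))) (κ : F) : Subgroup (Perm (F × F × F)) :=
  Γ.map (MulAut.conj (R κ)).toMonoidHom

omit [Finite F] in
theorem shifted_za {κ : F} (g : Perm (F × F × F)) (a : F) :
    (R κ * g * (R κ)⁻¹) (za a) = R κ (g (za a)) := by
  rw [Equiv.Perm.mul_apply, Equiv.Perm.mul_apply, R_inv_za]

omit [Finite F] in
theorem shifted_za_iff {κ : F} (g : Perm (F × F × F)) (a b : F) :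
    (R κ * g * (R κ)⁻¹) (za a) = za b ↔ g (za a) = za b := by
  rw [shifted_za, ← R_za κ b, (R κ).injective.eq_iff, R_za]

namespace Ctx

variable (X : Ctx p Γ)

include X

theorem shift {κ : F} (hκ : κ = 0 ∨ ∀ l : Fˣ, l = 1 ∨ l = -1) : Ctx p (shifted Γ κ) where
  prime := X.prime
  odd := X.odd
  char := X.char
  mod_four := X.mod_four
  add := by
    rintro _ ⟨g, hg, rfl⟩ x y
    have hR : ∀ κ : F, ∀ x y : F × F × F, R κ (x + y) = R κ x + R κ y := fun κ x y => by
      simp only [R_apply, Prod.fst_add, Prod.snd_add, Prod.mk_add_mk, Prod.mk.injEq, and_true, true_and]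
      ring
    have hRi : (R κ)⁻¹ (x + y) = (R κ)⁻¹ x + (R κ)⁻¹ y := by
      rw [Equiv.Perm.inv_eq_iff_eq, hR, perm_ai, perm_ai]
    show (R κ * g * (R κ)⁻¹) (x + y) = (R κ * g * (R κ)⁻¹) x + (R κ * g * (R κ)⁻¹) y
    simp only [Equiv.Perm.mul_apply]
    rw [hRi, X.add g hg, hR]
  u_mem s := ⟨U s, X.u_mem s, R_conj_U κ s⟩
  t_mem l := ⟨T l, X.t_mem l, R_conj_T hκ l⟩
  fix := by
    rintro _ ⟨g, hg, rfl⟩ a ha h
    obtain ⟨s, l, rfl⟩ := X.fix g hg a ha ((shifted_za_iff g a a).1 h)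
    refine ⟨s, l, ?_⟩
    show R κ * (U s * T l) * (R κ)⁻¹ = U s * T l
    calc R κ * (U s * T l) * (R κ)⁻¹ = (R κ * U s * (R κ)⁻¹) * (R κ * T l * (R κ)⁻¹) := by group
      _ = U s * T l := by rw [R_conj_U, R_conj_T hκ]
  move := by
    obtain ⟨g, hg, ⟨k, hk⟩, hne⟩ := X.move
    refine ⟨R κ * g * (R κ)⁻¹, ⟨g, hg, rfl⟩, ⟨k, by rw [conj_pow, hk, mul_one, mul_inv_cancel]⟩, fun s e => hne s ?_⟩
    rw [← R_conj_U κ s] at e
    exact mul_left_cancel (mul_right_cancel e)
  classes := by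
    obtain ⟨a, b, ha, hb, h⟩ := X.classes
    refine ⟨a, b, ha, hb, ?_⟩
    rintro _ ⟨g, hg, rfl⟩ e
    exact h g hg ((shifted_za_iff g a b).1 e)

/-- After a shift some element carries the first line to the third one. -/
theorem exists_shift : ∃ κ : F, Ctx p (shifted Γ κ) ∧ ∃ g : shifted Γ κ, IsLast g ∧ g ∉ St (shifted Γ κ) := by
  obtain ⟨h1, h2⟩ := X.fx_eq_one
  rcases h2 with hl | ⟨g, hg, hgS⟩
  · obtain ⟨⟨w, hwb, hwf⟩⟩ : Nonempty X.Fx := (Nat.card_eq_one_iff_unique.1 h1).2
    obtain ⟨g, rfl⟩ := QuotientGroup.mk_surjective w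
    have hg : g ∉ St Γ := fun e => hwb (coset_eq_base.2 e)
    have hmid := (X.fixed_iff g).1 hwf
    set x := (g : Perm (F × F × F)) (za 1) with hx
    have hc : x.2.2 ≠ 0 := X.c_ne hg one_ne_zero
    set κ := -(x.1 / x.2.2) with hκ
    refine ⟨κ, X.shift (Or.inr hl), ⟨R κ * g * (R κ)⁻¹, ⟨g, g.2, rfl⟩⟩, ?_, ?_⟩
    · intro a
      show ((R κ * g * (R κ)⁻¹ : Perm (F × F × F)) (za a)).1 = 0 ∧ ((R κ * g * (R κ)⁻¹ : Perm (F × F × F)) (za a)).2.1 = 0
      rw [shifted_za, R_apply]
      refine ⟨?_, hmid a⟩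
      rcases eq_or_ne a 0 with rfl | ha
      · rw [show za (0 : F) = 0 from rfl, X.map_zero g.2]
        simp
      · have h3 : a = 1 ∨ a = -1 := by
          rcases hl (Units.mk0 a ha) with e | e <;> have := congrArg Units.val e <;> simp at this
          · exact Or.inl this
          · exact Or.inr this
        rcases h3 with rfl | rfl
        · rw [← hx, hκ]
          field_simp
          ring
        · rw [show za (-1 : F) = -za 1 from by simp [za], X.map_neg g.2, ← hx, hκ]
          simp only [Prod.fst_neg, Prod.snd_neg]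
          field_simp
          ring
    · intro h
      refine hg fun a => ?_
      obtain ⟨b, hb⟩ := h a
      exact ⟨b, (shifted_za_iff _ a b).1 hb⟩
  · have he : shifted Γ (0 : F) = Γ := by
      ext h
      simp [shifted, R_zero]
    refine ⟨0, X.shift (Or.inl rfl), ?_⟩
    rw [he]
    exact ⟨g, hg, hgS⟩

theorem fx_coset {g h : Γ} (hg : g ∉ St Γ) (hgf : X.tG (-1) • (g : Γ ⧸ St Γ) = g) (hh : h ∉ St Γ) :
    ∃ r, (h : Γ ⧸ St Γ) = ((X.uG r * g : Γ) : Γ ⧸ St Γ) := by
  obtain ⟨⟨u, r⟩, hu⟩ := X.translate_bijective.2 ⟨(h : Γ ⧸ St Γ), fun e => hh (coset_eq_base.1 e)⟩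
  have hw : u = ⟨(g : Γ ⧸ St Γ), fun e => hg (coset_eq_base.1 e), hgf⟩ :=
    (Nat.card_eq_one_iff_unique.1 X.fx_eq_one.1).1.elim _ _
  refine ⟨r, ?_⟩
  have hu' : X.uG r • u.1 = (h : Γ ⧸ St Γ) := congrArg Subtype.val hu
  rw [hw] at hu'
  exact hu'.symm

/-- The lower unipotent elements lie in the group. -/
theorem lower_mem {g0 : Γ} (hg0 : IsLast g0) (hg0S : g0 ∉ St Γ) (ρ : F) : L ρ ∈ Γ := by
  have hg0f := X.fixed_of_mid (one_ne_zero (α := F)) (hg0 1).2
  obtain ⟨c, hc⟩ := (X.orbit_iff _).2 hg0f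
  set w : Γ := (c : Γ) with hw
  have hwc : (w : Γ ⧸ St Γ) = (g0 : Γ ⧸ St Γ) := by
    rw [← hc]
    show _ = ((w * 1 : Γ) : Γ ⧸ St Γ)
    rw [mul_one]
  have hwS : w ∉ St Γ := fun e => hg0S (coset_eq_base.1 (hwc ▸ coset_eq_base.2 e))
  have hwf : X.tG (-1) • (w : Γ ⧸ St Γ) = w := by rw [hwc]; exact hg0f
  set W : Perm (F × F × F) := (w : Perm (F × F × F)) with hW
  have hwlast : ∀ a, (W (za a)).1 = 0 ∧ (W (za a)).2.1 = 0 := by
    intro a
    obtain ⟨b, hb⟩ := QuotientGroup.eq.1 hwc.symm a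
    have : W (za a) = (g0 : Perm (F × F × F)) (za b) := by
      have := congrArg (g0 : Perm (F × F × F)) hb
      simpa [perm_ai, hW] using this
    rw [this]
    exact hg0 b
  set C : F → F := fun a => (W (za a)).2.2 with hC
  have hC1 : ∀ a, W (za a) = (0, 0, C a) := fun a =>
    Prod.ext (hwlast a).1 (Prod.ext (hwlast a).2 rfl)
  have hCinj : Function.Injective C := fun a b e => za_injective (W.injective (by rw [hC1, hC1, e]))
  have hCsurj := Finite.injective_iff_surjective.1 hCinj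
  have hadd : ∀ x y, W (x + y) = W x + W y := X.add W w.2
  have hCadd : ∀ a b, C (a + b) = C a + C b := fun a b => by
    simp only [hC]
    rw [show za (a + b) = za a + za b by simp [za], hadd]
    rfl
  -- the square fixes the first line
  have hw2 : w * w ∈ St Γ := by
    rw [← coset_eq_base]
    have h1 : X.tG (-1) • ((w * w : Γ) : Γ ⧸ St Γ) = ((w * w : Γ) : Γ ⧸ St Γ) := by
      show X.tG (-1) • (w • (w : Γ ⧸ St Γ)) = w • (w : Γ ⧸ St Γ)
      rw [← mul_smul, ← X.mem_Cent.1 c.2, mul_smul, hwf]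
    by_contra hne
    have h2 : (⟨_, hne, h1⟩ : X.Fx) = ⟨(w : Γ ⧸ St Γ), fun e => hwS (coset_eq_base.1 e), hwf⟩ :=
      (Nat.card_eq_one_iff_unique.1 X.fx_eq_one.1).1.elim _ _
    have h3 := QuotientGroup.eq.1 (congrArg Subtype.val h2)
    rw [mul_inv_rev, mul_assoc, inv_mul_cancel, mul_one, inv_mem_iff] at h3
    exact hwS h3
  set A : F → F := fun a => (W (0, 0, a)).1 with hA
  have hA1 : ∀ a, W (0, 0, a) = (A a, 0, 0) := by
    intro a
    obtain ⟨a', rfl⟩ := hCsurj a
    obtain ⟨b, hb⟩ := hw2 a'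
    have hb' : W (W (za a')) = za b := hb
    rw [hC1] at hb'
    simp only [hA, hb', za]
  set B : F → F := fun b => (W (0, b, 0)).2.1 with hB
  have hB1 : ∀ b, W (0, b, 0) = (0, B b, 0) := by
    intro b
    have h := congrArg (fun g : Γ => (g : Perm (F × F × F)) (0, b, 0)) (X.mem_Cent.1 c.2)
    simp only [tG, Subgroup.coe_mul, Equiv.Perm.mul_apply, ← hw, ← hW, T_apply, Units.val_neg, Units.val_one] at h
    have e : ((0 : F), -1 * b, -1 * -1 * (0 : F)) = -((0 : F), b, (0 : F)) := by simp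
    rw [e, X.map_neg w.2, ← hW] at h
    have e1 : -(W (0, b, 0)).1 = (W (0, b, 0)).1 := by simpa using congrArg (fun x : F × F × F => x.1) h
    have e3 : -(W (0, b, 0)).2.2 = (W (0, b, 0)).2.2 := by simpa using congrArg (fun x : F × F × F => x.2.2) h
    have z : ∀ y : F, -y = y → y = 0 := fun y hy =>
      (mul_eq_zero.1 (show (2 : F) * y = 0 by linear_combination -hy)).resolve_left X.two_ne
    exact Prod.ext (z _ e1) (Prod.ext rfl (z _ e3))
  have hWx : ∀ x : F × F × F, W x = (A x.2.2, B x.2.1, C x.1) := by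
    intro x
    rw [show x = (za x.1 + (0, x.2.1, 0)) + (0, 0, x.2.2) by simp [za], hadd, hadd, hC1, hB1, hA1]
    simp [za]
  have hBne : ∀ b, b ≠ 0 → B b ≠ 0 := by
    intro b hb e
    have h := hB1 b
    rw [e] at h
    have h0 : W (0, b, 0) = W 0 := by rw [X.map_zero w.2, h]; rfl
    exact hb (congrArg (fun x : F × F × F => x.2.1) (W.injective h0))
  -- conjugates of the upper elements
  have key : ∀ s : F, ∃ ρ : F, W * U s * W⁻¹ = L ρ := by
    intro s
    rcases eq_or_ne s 0 with rfl | hs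
    · refine ⟨0, ?_⟩
      rw [U_zero, mul_one, mul_inv_cancel]
      exact Equiv.ext fun x => by simp [L_apply]
    have him : ∀ a, (((w * X.uG s * w : Γ) : Perm (F × F × F)) (za a)) =
        (A (C a), B (s * C a), C (s * s * C a)) := by
      intro a
      simp only [uG, Subgroup.coe_mul, Equiv.Perm.mul_apply, ← hW, hC1, U_apply, hWx]
      simp
    have hh : w * X.uG s * w ∉ St Γ := by
      intro h
      obtain ⟨a, ha⟩ := hCsurj 1
      obtain ⟨b, hb⟩ := h a
      rw [him, ha] at hb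
      have := congrArg (fun x : F × F × F => x.2.1) hb
      simp only [za, mul_one] at this
      exact hBne s hs this
    obtain ⟨r, hr⟩ := X.fx_coset hwS hwf hh
    have hrel : ∀ c, A c = r * r * C (s * s * c) ∧ B (s * c) = r * C (s * s * c) := by
      intro c
      obtain ⟨a, rfl⟩ := hCsurj c
      obtain ⟨a', ha'⟩ := QuotientGroup.eq.1 hr.symm a
      have h : ((w * X.uG s * w : Γ) : Perm (F × F × F)) (za a) = ((X.uG r * w : Γ) : Perm (F × F × F)) (za a') := by
        rw [← ha', ← Equiv.Perm.mul_apply, ← Subgroup.coe_mul, mul_inv_cancel_left]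
      rw [him] at h
      simp only [uG, Subgroup.coe_mul, Equiv.Perm.mul_apply, ← hW, hC1, U_apply, mul_zero, add_zero, zero_add,
        Prod.mk.injEq] at h
      obtain ⟨h1, h2, h3⟩ := h
      exact ⟨by rw [h1, h3], by rw [h2, h3]⟩
    have hr0 : r ≠ 0 := fun e => hBne s hs (by simpa [e] using (hrel 1).2)
    refine ⟨1 / r, ?_⟩
    rw [mul_inv_eq_iff_eq_mul]
    refine Equiv.ext fun x => ?_
    simp only [Equiv.Perm.mul_apply, hWx, U_apply, L_apply, Prod.mk.injEq]
    obtain ⟨hAc, hBc⟩ := hrel x.2.2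
    have hBb := (hrel (x.2.1 / s)).2
    rw [mul_div_cancel₀ x.2.1 hs, show s * s * (x.2.1 / s) = s * x.2.1 by field_simp] at hBb
    have hBadd : ∀ u v, B (u + v) = B u + B v := fun u v => by
      simp only [hB]
      rw [show ((0 : F), u + v, (0 : F)) = (0, u, 0) + (0, v, 0) by simp, hadd]
      rfl
    refine ⟨trivial, ?_, ?_⟩
    · rw [hBadd, hAc, hBc]
      field_simp
      ring
    · rw [hCadd, hCadd, show 2 * s * x.2.1 = s * x.2.1 + s * x.2.1 by ring, hCadd, hAc, hBb]
      field_simp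
      ring
  choose f hf using key
  have hfinj : Function.Injective f := fun a b e => by
    have h : W * U a * W⁻¹ = W * U b * W⁻¹ := by rw [hf, hf, e]
    exact X.uG_inj (Subtype.ext (mul_left_cancel (mul_right_cancel h)) : X.uG a = X.uG b)
  obtain ⟨s, rfl⟩ := (Finite.injective_iff_surjective.1 hfinj) ρ
  rw [← hf s]
  exact mul_mem (mul_mem w.2 (X.u_mem s)) (inv_mem w.2)

omit [Finite F] X in
theorem diag_mul (k l : Fˣ) : diagGL k l = diagGL k 1 * diagGL 1 l :=
  Units.ext (by ext i j; fin_cases i <;> fin_cases j <;> simp [diagGL, Matrix.mul_apply, Fin.sum_univ_two])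

theorem range_le {g0 : Γ} (hg0 : IsLast g0) (hg0S : g0 ∉ St Γ) : (symHom : GL (Fin 2) F →* _).range ≤ Γ := by
  rintro _ ⟨g, rfl⟩
  set H := Γ.comap (symHom : GL (Fin 2) F →* _) with hH
  have hu : ∀ s, upperGL s ∈ H := X.u_mem
  have hl : ∀ s, lowerGL s ∈ H := X.lower_mem hg0 hg0S
  have ht : ∀ l, diagGL 1 l ∈ H := X.t_mem
  have hd : ∀ k l, diagGL k l ∈ H := by
    intro k l
    rw [diag_mul]
    refine mul_mem ?_ (ht l)
    set w0 := upperGL (1 : F) * lowerGL (-1) * upperGL 1 with hw0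
    have e : diagGL k 1 * w0 = w0 * diagGL 1 k := by
      refine Units.ext ?_
      ext i j
      fin_cases i <;> fin_cases j <;>
        simp [hw0, diagGL, upperGL, lowerGL, Matrix.mul_apply, Fin.sum_univ_two]
    rw [show diagGL k 1 = w0 * diagGL 1 k * w0⁻¹ by rw [← e, mul_inv_cancel_right]]
    have hw : w0 ∈ H := mul_mem (mul_mem (hu 1) (hl _)) (hu 1)
    exact mul_mem (mul_mem hw (ht k)) (inv_mem hw)
  have main : ∀ g : GL (Fin 2) F, (g : Matrix (Fin 2) (Fin 2) F) 0 0 ≠ 0 → g ∈ H := by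
    intro g hα
    set M := (g : Matrix (Fin 2) (Fin 2) F) with hM
    have hdet : M 0 0 * M 1 1 - M 0 1 * M 1 0 ≠ 0 := by
      rw [← Matrix.det_fin_two]
      exact (Matrix.GeneralLinearGroup.det g).ne_zero
    have hδ : M 1 1 - M 1 0 * M 0 1 / M 0 0 ≠ 0 := by
      intro e
      apply hdet
      field_simp at e
      linear_combination e
    have e : g = lowerGL (M 1 0 / M 0 0) * diagGL (Units.mk0 _ hα) (Units.mk0 _ hδ) * upperGL (M 0 1 / M 0 0) := by
      refine Units.ext ?_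
      ext i j
      fin_cases i <;> fin_cases j <;>
        simp [← hM, diagGL, upperGL, lowerGL, Matrix.mul_apply, Fin.sum_univ_two] <;> field_simp <;> ring
    rw [e]
    exact mul_mem (mul_mem (hl _) (hd _ _)) (hu _)
  show g ∈ H
  by_cases hα : (g : Matrix (Fin 2) (Fin 2) F) 0 0 = 0
  · have hγ : (g : Matrix (Fin 2) (Fin 2) F) 1 0 ≠ 0 := fun e =>
      (Matrix.GeneralLinearGroup.det g).ne_zero (by
        rw [Matrix.GeneralLinearGroup.val_det_apply, Matrix.det_fin_two, hα, e]; ring)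
    rw [← Subgroup.mul_mem_cancel_left H (hu 1)]
    refine main _ ?_
    simpa [upperGL, Matrix.mul_apply, Fin.sum_univ_two, hα] using hγ
  · exact main g hα

theorem le_range {g0 : Γ} (hg0 : IsLast g0) (hg0S : g0 ∉ St Γ) : Γ ≤ (symHom : GL (Fin 2) F →* _).range := by
  have hle := X.range_le hg0 hg0S
  have hsc : ∀ k : Fˣ, ∃ h ∈ (symHom : GL (Fin 2) F →* _).range, ∀ a, h (za a) = za ((k : F) * k * a) := fun k =>
    ⟨_, ⟨diagGL k 1, rfl⟩, fun a => by simp [symHom_apply, sym, diagGL, za]⟩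
  have stab : ∀ g : Γ, g ∈ St Γ → (g : Perm (F × F × F)) ∈ (symHom : GL (Fin 2) F →* _).range := by
    intro g hg
    obtain ⟨α, hα⟩ := hg 1
    have hα0 : α ≠ 0 := fun e => X.za_ne (one_ne_zero (α := F)) ((g : Perm (F × F × F)).injective (by
      rw [hα, e, X.map_zero g.2]; rfl))
    by_cases hsq : IsSquare α
    · obtain ⟨k, rfl⟩ := hsq
      obtain ⟨h, hh, hha⟩ := hsc (Units.mk0 k (left_ne_zero_of_mul hα0))
      have hfix : (h⁻¹ * (g : Perm (F × F × F))) (za 1) = za 1 := by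
        rw [Equiv.Perm.mul_apply, hα, Equiv.Perm.inv_eq_iff_eq, hha, mul_one, Units.val_mk0]
      obtain ⟨s, l, hsl⟩ := X.fix _ (mul_mem (inv_mem (hle hh)) g.2) 1 one_ne_zero hfix
      rw [← mul_inv_cancel_left h (g : Perm (F × F × F)), hsl]
      exact mul_mem hh (mul_mem ⟨upperGL s, rfl⟩ ⟨diagGL 1 l, rfl⟩)
    · exfalso
      obtain ⟨k, hk⟩ := (X.square_or_neg hα0).resolve_left hsq
      have hk0 : k ≠ 0 := fun e => hα0 (neg_eq_zero.1 (by rw [hk, e, mul_zero]))
      have reach : ∀ a : F, a ≠ 0 → ∃ h ∈ Γ, h (za 1) = za a := by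
        intro a ha
        rcases X.square_or_neg ha with ⟨m, rfl⟩ | ⟨m, hm⟩
        · obtain ⟨h, hh, hha⟩ := hsc (Units.mk0 m (left_ne_zero_of_mul ha))
          exact ⟨h, hle hh, by rw [hha, mul_one, Units.val_mk0]⟩
        · have hm0 : m ≠ 0 := fun e => ha (neg_eq_zero.1 (by rw [hm, e, mul_zero]))
          obtain ⟨h, hh, hha⟩ := hsc (Units.mk0 (m / k) (div_ne_zero hm0 hk0))
          refine ⟨h * g, mul_mem (hle hh) g.2, ?_⟩
          rw [Equiv.Perm.mul_apply, hα, hha, Units.val_mk0]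
          congr 1
          field_simp
          linear_combination -(m * m) * hk + (k * k) * hm
      obtain ⟨a, b, ha, hb, hno⟩ := X.classes
      obtain ⟨h1, hh1, e1⟩ := reach a ha
      obtain ⟨h2, hh2, e2⟩ := reach b hb
      exact hno (h2 * h1⁻¹) (mul_mem hh2 (inv_mem hh1)) (by rw [Equiv.Perm.mul_apply, ← e1, perm_ia, e2])
  intro g hg
  by_cases hS : (⟨g, hg⟩ : Γ) ∈ St Γ
  · exact stab _ hS
  set w0 : Γ := ⟨symHom (upperGL (1 : F) * lowerGL (-1) * upperGL 1), hle ⟨_, rfl⟩⟩ with hw0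
  have hv : ∀ a, (w0 : Perm (F × F × F)) (za a) = (0, 0, a) := fun a => by
    simp [hw0, symHom_apply, sym, za, upperGL, lowerGL, Matrix.mul_apply, Fin.sum_univ_two]
    ring
  have hwS : w0 ∉ St Γ := fun h => by
    obtain ⟨b, hb⟩ := h 1
    rw [hv] at hb
    simpa [za] using congrArg (fun x : F × F × F => x.2.2) hb
  have hwf : X.tG (-1) • (w0 : Γ ⧸ St Γ) = w0 := X.fixed_of_mid (one_ne_zero (α := F)) (by rw [hv])
  obtain ⟨r, hr⟩ := X.fx_coset hwS hwf hS
  have hin := stab _ (QuotientGroup.eq.1 hr.symm)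
  rw [Subgroup.coe_mul, Subgroup.coe_inv] at hin
  have hm : ((X.uG r * w0 : Γ) : Perm (F × F × F)) ∈ (symHom : GL (Fin 2) F →* _).range := by
    rw [Subgroup.coe_mul]
    exact mul_mem ⟨upperGL r, rfl⟩ ⟨_, rfl⟩
  have := mul_mem hm hin
  rwa [mul_inv_cancel_left] at this

omit X in
theorem sym_kernel {g : GL (Fin 2) F} (h2 : (2 : F) ≠ 0) :
    symHom g = 1 ↔ g = Matrix.GeneralLinearGroup.scalar (Fin 2) 1 ∨ g = Matrix.GeneralLinearGroup.scalar (Fin 2) (-1) := by
  constructor
  · intro h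
    have e1 := congrArg (fun e : Perm (F × F × F) => e (1, 0, 0)) h
    have e2 := congrArg (fun e : Perm (F × F × F) => e (0, 1, 0)) h
    have e3 := congrArg (fun e : Perm (F × F × F) => e (0, 0, 1)) h
    simp only [symHom_apply, sym, Equiv.Perm.one_apply, Prod.mk.injEq, mul_zero, mul_one, add_zero, zero_add] at e1 e2 e3
    obtain ⟨a1, -, c1⟩ := e1
    obtain ⟨-, b2, -⟩ := e2
    obtain ⟨a3, -, -⟩ := e3
    set M := (g : Matrix (Fin 2) (Fin 2) F) with hM
    have hβ : M 0 1 = 0 := mul_self_eq_zero.1 a3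
    have hγ : M 1 0 = 0 := mul_self_eq_zero.1 c1
    rw [hβ, zero_mul, add_zero] at b2
    rcases mul_self_eq_one_iff.1 a1 with ha | ha <;> rw [ha] at b2
    · left
      refine Units.ext ?_
      ext i j
      fin_cases i <;> fin_cases j <;> simp [← hM, ha, hβ, hγ]
      linear_combination b2
    · right
      refine Units.ext ?_
      ext i j
      fin_cases i <;> fin_cases j <;> simp [← hM, ha, hβ, hγ]
      linear_combination -b2
  · rintro (rfl | rfl) <;> exact Equiv.ext fun x => by simp [symHom_apply, sym]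

/-- The structure of the symmetric square of `GL₂`. -/
theorem range_iso : Nonempty ((symHom : GL (Fin 2) F →* Perm (F × F × F)).range ≃*
    Matrix.ProjGenLinGroup (Fin 2) F × Multiplicative (ZMod ((Nat.card F - 1) / 2))) := by
  classical
  set S := (powMonoidHom 2 : Fˣ →* Fˣ).range with hS
  let Θ : GL (Fin 2) F →* Matrix.ProjGenLinGroup (Fin 2) F × S :=
    Matrix.ProjGenLinGroup.mk.prod ((powMonoidHom 2 : Fˣ →* Fˣ).rangeRestrict.comp Matrix.GeneralLinearGroup.det)
  have hsurj : Function.Surjective Θ := by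
    rintro ⟨c, v, u, rfl⟩
    obtain ⟨g, rfl⟩ := Matrix.ProjGenLinGroup.mk_surjective c
    set e : F := (u : F) / (Matrix.GeneralLinearGroup.det g : Fˣ) with he
    have he0 : e ≠ 0 := div_ne_zero u.ne_zero (Units.ne_zero _)
    obtain ⟨k, hk⟩ : ∃ k : F, k * k * (k * k) = e * e := by
      rcases X.square_or_neg he0 with ⟨k, hk⟩ | ⟨k, hk⟩
      · exact ⟨k, by rw [← hk]⟩
      · exact ⟨k, by rw [← hk]; ring⟩
    have hk0 : k ≠ 0 := fun h => he0 (mul_self_eq_zero.1 (by rw [← hk, h]; ring))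
    refine ⟨g * Matrix.GeneralLinearGroup.scalar (Fin 2) (Units.mk0 k hk0), Prod.ext ?_ (Subtype.ext (Units.ext ?_))⟩
    · show Matrix.ProjGenLinGroup.mk (g * _) = _
      rw [map_mul, Matrix.ProjGenLinGroup.mk_scalar, mul_one]
    · show (((Matrix.GeneralLinearGroup.det (g * Matrix.GeneralLinearGroup.scalar (Fin 2) (Units.mk0 k hk0))) ^ 2 : Fˣ) : F)
        = ((u ^ 2 : Fˣ) : F)
      rw [map_mul, Units.val_pow_eq_pow_val, Units.val_pow_eq_pow_val, Units.val_mul,
        Matrix.GeneralLinearGroup.val_det_apply (Matrix.GeneralLinearGroup.scalar (Fin 2) _)]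
      simp only [Matrix.det_fin_two]
      rw [he] at hk
      have := (Matrix.GeneralLinearGroup.det g).ne_zero
      field_simp at hk
      simp [Matrix.GeneralLinearGroup.val_det_apply] at hk ⊢
      linear_combination hk
  have hker : Θ.ker = (symHom : GL (Fin 2) F →* Perm (F × F × F)).ker := by
    ext g
    rw [MonoidHom.mem_ker, MonoidHom.mem_ker, sym_kernel X.two_ne]
    constructor
    · intro h
      have h1 : Matrix.ProjGenLinGroup.mk g = 1 := congrArg Prod.fst h
      rw [Matrix.ProjGenLinGroup.mk_eq_one, Matrix.GeneralLinearGroup.center_eq_range_scalar] at h1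
      obtain ⟨k, rfl⟩ := h1
      have h2 := congrArg (fun x => (((x.2 : S) : Fˣ) : F)) h
      have h3 : ((Matrix.GeneralLinearGroup.det (Matrix.GeneralLinearGroup.scalar (Fin 2) k) ^ 2 : Fˣ) : F) = 1 := h2
      rw [Units.val_pow_eq_pow_val, Matrix.GeneralLinearGroup.val_det_apply, Matrix.det_fin_two] at h3
      simp at h3
      rcases h3 with e | e
      · rcases mul_self_eq_one_iff.1 e with e' | e'
        · exact Or.inl (by rw [show k = 1 from Units.ext e'])
        · exact Or.inr (by rw [show k = -1 from Units.ext (by rw [e']; simp)])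
      · exfalso
        haveI := Fintype.ofFinite F
        have hs : IsSquare (-1 : F) := ⟨(k : F), e.symm⟩
        rw [FiniteField.isSquare_neg_one_iff, ← Nat.card_eq_fintype_card] at hs
        exact hs X.mod_four
    · rintro (rfl | rfl) <;>
        exact Prod.ext (Matrix.ProjGenLinGroup.mk_scalar _) (Subtype.ext (Units.ext (by
          show ((Matrix.GeneralLinearGroup.det (Matrix.GeneralLinearGroup.scalar (Fin 2) _) ^ 2 : Fˣ) : F) = 1
          rw [Units.val_pow_eq_pow_val, Matrix.GeneralLinearGroup.val_det_apply, Matrix.det_fin_two]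
          simp)))
  have hcard : Nat.card S = (Nat.card F - 1) / 2 := by
    have h : 2 * Nat.card S = Nat.card F - 1 := X.card_sq
    omega
  refine ⟨(QuotientGroup.quotientKerEquivRange _).symm.trans ((QuotientGroup.quotientMulEquivOfEq hker.symm).trans
    ((QuotientGroup.quotientKerEquivOfSurjective Θ hsurj).trans ((MulEquiv.refl _).prodCongr ?_)))⟩
  exact (zmodCyclicMulEquiv (inferInstance : IsCyclic S)).symm.trans
    (AddEquiv.toMultiplicative (ZMod.ringEquivCongr hcard).toAddEquiv)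

/-- The group is isomorphic to `PGL₂(q)` times a cyclic group of order `(q - 1) / 2`. -/
theorem iso : Nonempty (Γ ≃* Matrix.ProjGenLinGroup (Fin 2) F × Multiplicative (ZMod ((Nat.card F - 1) / 2))) := by
  obtain ⟨κ, X', g0, hg0, hg0S⟩ := X.exists_shift
  obtain ⟨e⟩ := X'.range_iso
  have h : shifted Γ κ = (symHom : GL (Fin 2) F →* Perm (F × F × F)).range :=
    le_antisymm (X'.le_range hg0 hg0S) (X'.range_le hg0 hg0S)
  exact ⟨((Γ.equivMapOfInjective _ (MulAut.conj (R κ)).injective).trans (MulEquiv.subgroupCongr h)).trans e⟩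

end Ctx

end Cfsg.Agent.SymSquare
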