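import Cfsg.Agent.Lib.SymSquare.Basic
import Cfsg.Agent.Lib.Fusion.SimplePSp

/-!
The centralizer of a long root element of `PSp₄(q)`, `q` odd, and its abelian subgroup of order `q³`.
-/

set_option autoImplicit false
set_option linter.all false

namespace Cfsg.Agent.SymSquare.Model

open Matrix Cfsg Cfsg.Agent.Forms.SympStd Cfsg.Agent.Classical.Symplectic Cfsg.Agent.AutPSp.Basic
  Cfsg.Agent.AutPSp.Points Cfsg.Agent.AutPSp.SylowCentre Cfsg.Agent.Fusion.SympBlocks
  Cfsg.Agent.Fusion.SimplePSp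

universe u

variable {F : Type u} [Field F]

local notation "Sp" => Matrix.symplecticGroup (Fin 2) F
local notation "M" => Matrix (Fin 2 ⊕ Fin 2) (Fin 2 ⊕ Fin 2) F
local notation "π" => (QuotientGroup.mk' (Subgroup.center Sp) : Sp →* PSp 2 F)

/-- The symmetric matrix of a triple. -/
def mat (v : F × F × F) : Matrix (Fin 2) (Fin 2) F := !![v.1, v.2.1; v.2.1, v.2.2]

theorem mat_symm (v : F × F × F) : (mat v).IsSymm := by
  ext i j
  fin_cases i <;> fin_cases j <;> simp [mat]

/-- The element of the abelian radical. -/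
def sm (v : F × F × F) : Sp := symM (mat v) (mat_symm v)

theorem sm_add (v w : F × F × F) : sm (v + w) = sm v * sm w := by
  rw [sm, sm, sm, symM_mul]
  refine symM_congr ?_
  ext i j
  fin_cases i <;> fin_cases j <;> simp [mat]

theorem sm_zero : sm (0 : F × F × F) = 1 := by
  rw [sm, ← symM_zero]
  refine symM_congr ?_
  ext i j
  fin_cases i <;> fin_cases j <;> simp [mat]

theorem sm_inj {v w : F × F × F} (h : sm v = sm w) : v = w := by
  have h1 : mat v = mat w := (fromBlocks_inj.1 (congrArg Subtype.val h)).2.2.1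
  exact Prod.ext (congrFun (congrFun h1 0) 0) (Prod.ext (congrFun (congrFun h1 0) 1) (congrFun (congrFun h1 1) 1))

theorem exists_sm {S : Matrix (Fin 2) (Fin 2) F} (hS : S.IsSymm) : ∃ v, symM S hS = sm v := by
  refine ⟨(S 0 0, S 0 1, S 1 1), symM_congr ?_⟩
  ext i j
  fin_cases i <;> fin_cases j <;> simp [mat]
  exact hS.apply 0 1

theorem glM_sm (W : GL (Fin 2) F) (v : F × F × F) :
    glM W * sm v * (glM W)⁻¹ = sm (sym (W : Matrix (Fin 2) (Fin 2) F) v) := by
  rw [sm, glM_conj]
  refine symM_congr ?_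
  ext i j
  fin_cases i <;> fin_cases j <;> simp [mat, sym, Matrix.mul_apply, Fin.sum_univ_two] <;> ring

theorem sm_conj (v w : F × F × F) : sm v * sm w * (sm v)⁻¹ = sm w := by
  rw [← sm_add, add_comm, sm_add, mul_inv_cancel_right]

theorem decomp_conj (W : GL (Fin 2) F) (v w : F × F × F) :
    (sm v * glM W) * sm w * (sm v * glM W)⁻¹ = sm (sym (W : Matrix (Fin 2) (Fin 2) F) w) := by
  rw [show (sm v * glM W) * sm w * (sm v * glM W)⁻¹ = sm v * (glM W * sm w * (glM W)⁻¹) * (sm v)⁻¹ by group,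
    glM_sm, sm_conj]

/-- An element normalizing the radical lies in the parabolic subgroup. -/
theorem parabolic {g : Sp} (h : ∀ v, ∃ w, g * sm v * g⁻¹ = sm w) : ∃ (v : F × F × F) (W : GL (Fin 2) F),
    g = sm v * glM W := by
  obtain ⟨w, hw⟩ := h (1, 0, 1)
  have h1 : (g : M) * (sm (1, 0, 1) : Sp) = (sm w : Sp) * (g : M) := by
    rw [← Submonoid.coe_mul, ← Submonoid.coe_mul]
    exact congrArg Subtype.val (mul_inv_eq_iff_eq_mul.1 hw)
  have e1 : mat ((1 : F), (0 : F), (1 : F)) = 1 := by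
    ext i j
    fin_cases i <;> fin_cases j <;> simp [mat]
  have h2 : (g : M).toBlocks₁₂ = 0 := by
    have h3 : ((g : M) * (sm (1, 0, 1) : Sp)).toBlocks₁₁ = ((sm w : Sp) * (g : M)).toBlocks₁₁ := by rw [h1]
    rw [← fromBlocks_toBlocks (g : M), sm, sm, symM_coe, symM_coe, fromBlocks_multiply, fromBlocks_multiply, e1,
      toBlocks_fromBlocks₁₁, toBlocks_fromBlocks₁₁] at h3
    simpa using h3
  obtain ⟨S, hS, W, rfl, -⟩ := exists_decomp (A := g) fun i j => congrFun (congrFun h2 i) j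
  obtain ⟨v, hv⟩ := exists_sm hS
  exact ⟨v, W, by rw [hv]⟩

/-- Commuting with one element of the root group is commuting with all. -/
theorem root_comm {g : Sp} {a : F} (ha : a ≠ 0) (b : F) (h : g * sm (za a) = sm (za a) * g) :
    g * sm (za b) = sm (za b) * g := by
  have key : ∀ c : F, ((sm (za c) : Sp) : M) = 1 + (c / a) • (((sm (za a) : Sp) : M) - 1) := by
    intro c
    ext i j
    rcases i with i | i <;> rcases j with j | j <;> fin_cases i <;> fin_cases j <;>
      simp [sm, symM_coe, mat, za, ha]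
  refine Subtype.ext ?_
  have h' : (g : M) * ((sm (za a) : Sp) : M) = ((sm (za a) : Sp) : M) * (g : M) := by
    rw [← Submonoid.coe_mul, ← Submonoid.coe_mul, h]
  rw [Submonoid.coe_mul, Submonoid.coe_mul, key b, mul_add, add_mul, mul_one, one_mul, Matrix.mul_smul,
    Matrix.smul_mul, mul_sub, sub_mul, mul_one, one_mul, h']

theorem glM_add (s r : F) : glM (upperGL (s + r)) = glM (upperGL s) * glM (upperGL r) := by
  rw [← map_mul]
  congr 1
  refine Units.ext ?_
  ext i j
  fin_cases i <;> fin_cases j <;> simp [upperGL, Matrix.mul_apply, Fin.sum_univ_two, add_comm]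

theorem glM_zero : glM (upperGL (0 : F)) = 1 := by
  rw [← map_one glM]
  congr 1
  refine Units.ext ?_
  ext i j
  fin_cases i <;> fin_cases j <;> simp [upperGL]

variable [Fintype F] {p : ℕ} [Fact p.Prime] [CharP F p]

local notation "UU" => (upperSubgroup : Subgroup Sp)

theorem sm_mem (v : F × F × F) : sm v ∈ UU := symM_mem _ _

theorem ug_mem (s : F) : glM (upperGL s) ∈ UU := by
  set W : Matrix.SpecialLinearGroup (Fin 2) F := ⟨!![1, s; 0, 1], by simp [Matrix.det_fin_two]⟩ with hW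
  have h : W ∈ Cfsg.Agent.AutPSL.Roots.unitriSL :=
    ⟨fun i j h => by fin_cases i <;> fin_cases j <;> simp_all, fun i => by fin_cases i <;> simp [hW]⟩
  have e : glM (upperGL s) = glS W := congrArg glM (Units.ext rfl)
  rw [e]
  exact glS_mem h

theorem upper_cases {A : Sp} (h : A ∈ UU) : ∃ (v : F × F × F) (s : F), A = sm v * glM (upperGL s) := by
  obtain ⟨S, hS, W, hW, rfl⟩ := exists_upper_decomp h
  obtain ⟨v, hv⟩ := exists_sm hS
  refine ⟨v, (W : Matrix (Fin 2) (Fin 2) F) 0 1, ?_⟩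
  rw [hv]
  refine congrArg (sm v * ·) (congrArg glM (Units.ext ?_))
  ext i j
  fin_cases i <;> fin_cases j <;> simp [upperGL, toGL_coe, hW.2 0, hW.2 1, hW.1 1 0 (by decide)]

theorem upper_eq {v : F × F × F} {s : F} (h : sm v = glM (upperGL s)) : v = 0 ∧ s = 0 := by
  obtain ⟨h1, -, h3, h4⟩ := fromBlocks_inj.1 (congrArg Subtype.val h)
  refine ⟨?_, ?_⟩
  · exact Prod.ext (congrFun (congrFun h3 0) 0) (Prod.ext (congrFun (congrFun h3 0) 1) (congrFun (congrFun h3 1) 1))
  · simpa [upperGL] using (congrFun (congrFun h4 0) 1).symm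

include p in
theorem comm_of_mk {A B : Sp} (hA : A ∈ UU) (hB : B ∈ UU) (h : π A * π B = π B * π A) : A * B = B * A :=
  mk_injOn (p := p) one_le_two (mul_mem hA hB) (mul_mem hB hA) (by rw [map_mul, map_mul, h])

include p in
theorem centre_upper (h2 : (2 : F) ≠ 0) {z : Sp} (hz : z ∈ UU) (hc : ∀ A ∈ UU, π z * π A = π A * π z) :
    ∃ a, z = sm (za a) := by
  obtain ⟨v, s, rfl⟩ := upper_cases hz
  have h1 := decomp_conj (upperGL s) v (0, 0, 1)
  rw [comm_of_mk (p := p) hz (sm_mem _) (hc _ (sm_mem _)), mul_inv_cancel_right] at h1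
  have hs : s = 0 := by simpa [sym, upperGL] using (congrArg (fun x : F × F × F => x.2.1) (sm_inj h1)).symm
  subst hs
  rw [glM_zero, mul_one] at hz hc ⊢
  have h3 := glM_sm (upperGL (1 : F)) v
  rw [← comm_of_mk (p := p) hz (ug_mem _) (hc _ (ug_mem _)), mul_inv_cancel_right] at h3
  have h4 := sm_inj h3
  obtain ⟨a, b, c⟩ := v
  simp [sym, upperGL, Prod.ext_iff] at h4
  refine ⟨a, congrArg sm ?_⟩
  obtain ⟨e1, e2⟩ := h4
  have hc0 : c = 0 := e2
  subst hc0
  have hb : b = 0 := (mul_eq_zero.1 (show (2 : F) * b = 0 by linear_combination -e1)).resolve_left h2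
  subst hb
  rfl

variable (F) in
/-- The radical in the quotient. -/
def radical : Subgroup (PSp 2 F) where
  carrier := Set.range fun v : F × F × F => π (sm v)
  one_mem' := ⟨0, by simp only [sm_zero, map_one]⟩
  mul_mem' := by rintro _ _ ⟨v, rfl⟩ ⟨w, rfl⟩; exact ⟨v + w, by simp only [sm_add, map_mul]⟩
  inv_mem' := by
    rintro _ ⟨v, rfl⟩
    refine ⟨-v, eq_inv_of_mul_eq_one_left ?_⟩
    simp only [← map_mul, ← sm_add, neg_add_cancel, sm_zero, map_one]

include p in
theorem mk_sm_inj {v w : F × F × F} (h : π (sm v) = π (sm w)) : v = w :=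
  sm_inj (mk_injOn (p := p) one_le_two (sm_mem v) (sm_mem w) h)

include p in
theorem card_radical : Nat.card (radical F) = Nat.card F ^ 3 := by
  rw [← Nat.card_eq_of_bijective (fun v : F × F × F => (⟨π (sm v), v, rfl⟩ : radical F))
    ⟨fun v w h => mk_sm_inj (p := p) (congrArg Subtype.val h), fun ⟨_, v, hv⟩ => ⟨v, Subtype.ext hv⟩⟩]
  simp only [Nat.card_prod]
  ring

include p in
/-- The radical is the only abelian subgroup of its order in the Sylow subgroup. -/
theorem eq_radical (h2 : (2 : F) ≠ 0) {A : Subgroup (PSp 2 F)} (hA : A ≤ (UU).map π) (hc : IsMulCommutative A)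
    (hcard : Nat.card A = Nat.card F ^ 3) : A = radical F := by
  classical
  have hrep : ∀ a : A, ∃ vs : (F × F × F) × F, (a : PSp 2 F) = π (sm vs.1 * glM (upperGL vs.2)) := by
    rintro ⟨a, ha⟩
    obtain ⟨X, hX, rfl⟩ := hA ha
    obtain ⟨v, s, rfl⟩ := upper_cases hX
    exact ⟨(v, s), rfl⟩
  choose f hf using hrep
  have hfi : Function.Injective f := fun a b e => Subtype.ext (by rw [hf, hf, e])
  by_cases hall : ∀ a, (f a).2 = 0
  · refine Subgroup.eq_of_le_of_card_ge (fun a ha => ⟨(f ⟨a, ha⟩).1, ?_⟩) ?_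
    · show π (sm _) = a
      have h := hf ⟨a, ha⟩
      rw [hall, glM_zero, mul_one] at h
      exact h.symm
    · rw [card_radical (p := p), hcard]
  · exfalso
    push Not at hall
    obtain ⟨a0, h0⟩ := hall
    set v0 := (f a0).1
    set s0 := (f a0).2
    have key : ∀ a b : A, (f a).2 = (f b).2 →
        (f a).1.2.1 = (f b).1.2.1 ∧ (f a).1.2.2 = (f b).1.2.2 := by
      intro a b e
      set d := (f a).1 - (f b).1 with hd
      have hq : ((a * b⁻¹ : A) : PSp 2 F) = π (sm d) := by
        rw [Subgroup.coe_mul, Subgroup.coe_inv, hf, hf, e, ← map_inv, ← map_mul]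
        congr 1
        have : sm (f a).1 = sm d * sm (f b).1 := by rw [← sm_add, hd, sub_add_cancel]
        rw [this]
        group
      have hcm : (a0 : PSp 2 F) * ((a * b⁻¹ : A) : PSp 2 F) = ((a * b⁻¹ : A) : PSp 2 F) * (a0 : PSp 2 F) :=
        congrArg Subtype.val (hc.is_comm.comm a0 (a * b⁻¹))
      rw [hq, hf a0] at hcm
      have h3 := comm_of_mk (p := p) (mul_mem (sm_mem _) (ug_mem _)) (sm_mem _) hcm
      have h4 := decomp_conj (upperGL s0) v0 d
      rw [h3, mul_inv_cancel_right] at h4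
      have h5 := sm_inj h4
      obtain ⟨da, db, dc⟩ := d
      simp [sym, upperGL, Prod.ext_iff, h0] at h5
      obtain ⟨e1, e2⟩ := h5
      subst e2
      have hb : db = 0 := by
        have : (2 : F) * s0 * db = 0 := by linear_combination -e1
        exact (mul_eq_zero.1 this).resolve_left (mul_ne_zero h2 h0)
      subst hb
      have := congrArg (fun x : F × F × F => (x.2.1, x.2.2)) hd
      simp at this
      exact ⟨sub_eq_zero.1 this.1.symm, sub_eq_zero.1 this.2.symm⟩
    have hinj : Function.Injective fun a : A => ((f a).1.1, (f a).2) := fun a b e => by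
      obtain ⟨e1, e2⟩ := Prod.ext_iff.1 e
      simp only at e1 e2
      obtain ⟨e3, e4⟩ := key a b e2
      exact hfi (Prod.ext (Prod.ext e1 (Prod.ext e3 e4)) e2)
    have hle := Nat.card_le_card_of_injective _ hinj
    rw [hcard, Nat.card_prod] at hle
    have hq : 1 < Nat.card F := Finite.one_lt_card
    nlinarith

include p in
/-- A centralizing element that normalizes the radical. -/
theorem normalizing {g : Sp} {a : F} (ha : a ≠ 0) (hg : π g * π (sm (za a)) = π (sm (za a)) * π g)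
    (hn : ∀ v, ∃ w, π g * π (sm v) * (π g)⁻¹ = π (sm w)) :
    ∃ (v : F × F × F) (s : F) (l : Fˣ), π g = π (sm v) * π (glM (upperGL s)) * π (glM (diagGL 1 l)) := by
  have lift : ∀ v w, π g * π (sm v) * (π g)⁻¹ = π (sm w) → g * sm v * g⁻¹ = sm w := by
    intro v w h
    obtain ⟨k, hk⟩ := upper_pow (p := p) (sm_mem v)
    obtain ⟨l, hl⟩ := upper_pow (p := p) (sm_mem w)
    refine eq_of_mk_eq (p := p) one_le_two (k := k) (l := l) (by rw [conj_pow, hk, mul_one, mul_inv_cancel]) hl ?_
    rw [map_mul, map_mul, map_inv, h]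
  have hza := lift _ _ (mul_inv_eq_iff_eq_mul.2 hg)
  obtain ⟨v, W, rfl⟩ := parabolic fun v => by
    obtain ⟨w, hw⟩ := hn v
    exact ⟨w, lift v w hw⟩
  rw [decomp_conj] at hza
  have e := sm_inj hza
  set N := (W : Matrix (Fin 2) (Fin 2) F) with hN
  simp [sym, za, Prod.ext_iff, ha] at e
  obtain ⟨e1, -⟩ := e
  have hα : N 0 0 * N 0 0 = 1 := e1
  have hα0 : N 0 0 ≠ 0 := fun h => one_ne_zero (hα.symm.trans (by rw [h, mul_zero]))
  have hγ : N 1 0 = 0 := by
    have h := sm_inj hza
    have h' := congrArg (fun x : F × F × F => x.2.2) h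
    simp [sym, za, ha] at h'
    exact h'
  have hδ : N 1 1 ≠ 0 := fun h => (Matrix.GeneralLinearGroup.det W).ne_zero (by
    rw [Matrix.GeneralLinearGroup.val_det_apply, Matrix.det_fin_two, ← hN, hγ, h]; ring)
  set l : Fˣ := Units.mk0 (N 0 0 * N 1 1) (mul_ne_zero hα0 hδ) with hl
  refine ⟨v, N 0 1 / N 1 1, l, ?_⟩
  have hWe : glM W = scalarSp (N 0 0) hα * (glM (upperGL (N 0 1 / N 1 1)) * glM (diagGL 1 l)) := by
    rw [← map_mul]
    refine Subtype.ext ?_
    rw [Submonoid.coe_mul, glM_coe, glM_coe, show ((scalarSp (N 0 0) hα : Sp) : M) = N 0 0 • 1 from rfl,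
      Matrix.smul_mul, one_mul, fromBlocks_smul, smul_zero]
    have hm : N 0 0 • ((upperGL (N 0 1 / N 1 1) * diagGL 1 l : GL (Fin 2) F) : Matrix (Fin 2) (Fin 2) F) = N := by
      ext i j
      fin_cases i <;> fin_cases j <;>
        simp [upperGL, diagGL, Matrix.mul_apply, Fin.sum_univ_two, hl, hγ]
      · field_simp
        linear_combination N 0 1 * hα
      · linear_combination N 1 1 * hα
    have hWi : ((W⁻¹ : GL (Fin 2) F) : Matrix (Fin 2) (Fin 2) F) =
        N 0 0 • (((upperGL (N 0 1 / N 1 1) * diagGL 1 l)⁻¹ : GL (Fin 2) F) : Matrix (Fin 2) (Fin 2) F) := by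
      refine Units.inv_eq_of_mul_eq_one_right ?_
      generalize upperGL (N 0 1 / N 1 1) * diagGL 1 l = Y at hm
      calc N * (N 0 0 • ((Y⁻¹ : GL (Fin 2) F) : Matrix (Fin 2) (Fin 2) F))
          = (N 0 0 • (Y : Matrix (Fin 2) (Fin 2) F)) * (N 0 0 • ((Y⁻¹ : GL (Fin 2) F) : Matrix (Fin 2) (Fin 2) F)) := by
            rw [hm]
        _ = 1 := by rw [Matrix.smul_mul, Matrix.mul_smul, smul_smul, hα, one_smul, Units.mul_inv]
    congr 1
    · rw [hWi, Matrix.transpose_smul]
    · exact hm.symm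
  rw [map_mul, hWe, map_mul, mk_scalarSp, one_mul, map_mul, mul_assoc]

end Cfsg.Agent.SymSquare.Model
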