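import Cfsg.Agent.Lib.SymSquare.Main
import Cfsg.Agent.Lib.SymSquare.Model
import Cfsg.Agent.Solvable.Gaschutz

/-!
The normalizer of an abelian subgroup of order `q³` in a group with two classes of `p`-central elements and a
centralizer of the `PSp₄(q)` shape.
-/

set_option autoImplicit false
set_option linter.all false

namespace Cfsg.Agent.SymSquare.Normalizer

open Cfsg Cfsg.Agent.SymSquare.Model Cfsg.Agent.Fusion.SympBlocks Cfsg.Agent.AutPSp.SylowCentre
open Equiv (Perm)

universe u v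

variable {F : Type v} [Field F]

local notation "Sp" => Matrix.symplecticGroup (Fin 2) F
local notation "π" => (QuotientGroup.mk' (Subgroup.center Sp) : Sp →* PSp 2 F)

/-- The centralizer of a root element. -/
abbrev Cz (a : F) : Subgroup (PSp 2 F) := Subgroup.centralizer ({π (sm (za a))} : Set (PSp 2 F))

theorem mem_Cz {a : F} {g : Sp} (h : g * sm (za a) = sm (za a) * g) : π g ∈ Cz a := by
  rw [Subgroup.mem_centralizer_singleton_iff, ← map_mul, h, map_mul]

theorem sm_Cz (a : F) (v : F × F × F) : π (sm v) ∈ Cz a := mem_Cz (by rw [← sm_add, ← sm_add, add_comm])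

theorem gl_Cz (a : F) {W : GL (Fin 2) F} (h : symHom W (za a) = za a) : π (glM W) ∈ Cz a :=
  mem_Cz (mul_inv_eq_iff_eq_mul.1 ((glM_sm W (za a)).trans (congrArg sm h)))

/-- An element of the radical in the centralizer. -/
def mC (a : F) (v : F × F × F) : Cz a := ⟨π (sm v), sm_Cz a v⟩

/-- An upper element in the centralizer. -/
def uC (a : F) (s : F) : Cz a := ⟨π (glM (upperGL s)), gl_Cz a (U_za s a)⟩

/-- A diagonal element in the centralizer. -/
def tC (a : F) (l : Fˣ) : Cz a := ⟨π (glM (diagGL 1 l)), gl_Cz a (T_za l a)⟩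

theorem mC_add (a : F) (v w : F × F × F) : mC a (v + w) = mC a v * mC a w :=
  Subtype.ext (show π (sm (v + w)) = π (sm v) * π (sm w) by rw [sm_add, map_mul])

theorem uC_add (a : F) (s r : F) : uC a (s + r) = uC a s * uC a r :=
  Subtype.ext (show π (glM (upperGL (s + r))) = π (glM (upperGL s)) * π (glM (upperGL r)) by rw [glM_add, map_mul])

theorem uC_conj (a s : F) (v : F × F × F) : uC a s * mC a v * (uC a s)⁻¹ = mC a (U s v) :=
  Subtype.ext (show π (glM (upperGL s)) * π (sm v) * (π (glM (upperGL s)))⁻¹ = π (sm (U s v)) by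
    rw [← map_inv, ← map_mul, ← map_mul, glM_sm]; rfl)

theorem tC_conj (a : F) (l : Fˣ) (v : F × F × F) : tC a l * mC a v * (tC a l)⁻¹ = mC a (T l v) :=
  Subtype.ext (show π (glM (diagGL 1 l)) * π (sm v) * (π (glM (diagGL 1 l)))⁻¹ = π (sm (T l v)) by
    rw [← map_inv, ← map_mul, ← map_mul, glM_sm]; rfl)

variable [Fintype F] {G : Type u} [Group G] [Finite G] {p : ℕ} [Fact p.Prime] [CharP F p]

include p in
theorem mk_lift {a : F} {Y : Sp} (hy : π Y * π (sm (za a)) = π (sm (za a)) * π Y) : Y * sm (za a) = sm (za a) * Y := by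
  obtain ⟨k, hk⟩ := Cfsg.Agent.Fusion.SimplePSp.upper_pow (p := p) (sm_mem (za a))
  refine mul_inv_eq_iff_eq_mul.1 (Cfsg.Agent.Fusion.SimplePSp.eq_of_mk_eq (p := p) one_le_two
    (k := k) (l := k) (by rw [conj_pow, hk, mul_one, mul_inv_cancel]) hk ?_)
  rw [map_mul, map_mul, map_inv, hy, mul_inv_cancel_right]

set_option maxHeartbeats 1000000 in
/-- The normalizer is a split extension by `PGL₂(q)` times a cyclic group of order `(q - 1) / 2`. -/
theorem main (hp : p ≠ 2) (hq4 : Nat.card F % 4 = 3) {C : Subgroup G} {a0 : F} (ha0 : a0 ≠ 0)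
    (j : Cz a0 →* G) (hji : Function.Injective j) (hjr : j.range = C)
    (hb : ∀ z ∈ C, z ≠ 1 → (∀ c ∈ C, c * z = z * c) → Subgroup.centralizer ({z} : Set G) = C)
    (hc : ∃ (u v : G) (Pu Pv : Sylow p G), orderOf u = p ∧ orderOf v = p ∧
      u ∈ (Pu : Subgroup G) ∧ (∀ y ∈ (Pu : Subgroup G), y * u = u * y) ∧
      v ∈ (Pv : Subgroup G) ∧ (∀ y ∈ (Pv : Subgroup G), y * v = v * y) ∧ ∀ g : G, g * u * g⁻¹ ≠ v)
    (P : Sylow p G)
    (hP : ∀ y, y ∈ (P : Subgroup G) ↔ ∃ A ∈ (upperSubgroup : Subgroup Sp), ∃ h : π A ∈ Cz a0, j ⟨π A, h⟩ = y)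
    (M : Subgroup G) (hM : ∀ y, y ∈ M ↔ ∃ v, j (mC a0 v) = y)
    (hnc : ∃ Q R : Sylow p ↥(Subgroup.normalizer (M : Set G)), Q ≠ R) :
    ∃ J : Subgroup G, J ≤ Subgroup.normalizer (M : Set G) ∧ M ⊔ J = Subgroup.normalizer (M : Set G) ∧ M ⊓ J = ⊥ ∧
      Nonempty (↥J ≃* (Matrix.ProjGenLinGroup (Fin 2) F × Multiplicative (ZMod ((Nat.card F - 1) / 2)))) := by
  classical
  set N := Subgroup.normalizer (M : Set G) with hN
  set m : F × F × F → G := fun v => j (mC a0 v) with hm
  set uu : F → G := fun s => j (uC a0 s) with huu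
  set tt : Fˣ → G := fun l => j (tC a0 l) with htt
  have hmadd : ∀ v w, m (v + w) = m v * m w := fun v w => by simp only [hm]; rw [mC_add, map_mul]
  have hminj : Function.Injective m := fun v w e =>
    mk_sm_inj (p := p) (congrArg Subtype.val (hji e))
  have hm0 : m 0 = 1 := by
    have h := hmadd 0 0
    rw [add_zero, left_eq_mul] at h
    exact h
  have hmM : ∀ v, m v ∈ M := fun v => (hM _).2 ⟨v, rfl⟩
  have huconj : ∀ s v, uu s * m v * (uu s)⁻¹ = m (U s v) := fun s v => by
    simp only [hm, huu]; rw [← map_inv, ← map_mul, ← map_mul, uC_conj]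
  have htconj : ∀ l v, tt l * m v * (tt l)⁻¹ = m (T l v) := fun l v => by
    simp only [hm, htt]; rw [← map_inv, ← map_mul, ← map_mul, tC_conj]
  have huN : ∀ g : G, ∀ φ : Perm (F × F × F), (∀ v, g * m v * g⁻¹ = m (φ v)) → g ∈ N := by
    intro g φ hg
    rw [hN, Subgroup.mem_normalizer_iff]
    intro y
    constructor
    · intro hy
      obtain ⟨v, rfl⟩ := (hM y).1 hy
      rw [hg]
      exact hmM _
    · intro hy
      obtain ⟨w, hw⟩ := (hM _).1 hy
      obtain ⟨v, rfl⟩ := φ.surjective w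
      have : m (φ v) = g * y * g⁻¹ := hw
      rw [← hg, mul_left_inj, mul_right_inj] at this
      exact this ▸ hmM v
  -- the action on the radical
  have hact : ∀ g : N, ∀ v, ∃ w, (g : G) * m v * (g : G)⁻¹ = m w := fun g v => by
    obtain ⟨w, hw⟩ := (hM _).1 ((Subgroup.mem_normalizer_iff.1 g.2 _).1 (hmM v))
    exact ⟨w, hw.symm⟩
  choose f hf using hact
  have hfmul : ∀ g h : N, ∀ v, f (g * h) v = f g (f h v) := fun g h v => hminj (by
    rw [← hf, ← hf g, ← hf h, Subgroup.coe_mul]
    group)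
  have hfone : ∀ v, f 1 v = v := fun v => hminj (by rw [← hf, Subgroup.coe_one, one_mul, inv_one, mul_one])
  let φ : N →* Perm (F × F × F) :=
    { toFun := fun g =>
        { toFun := f g
          invFun := f g⁻¹
          left_inv := fun v => by rw [← hfmul, inv_mul_cancel, hfone]
          right_inv := fun v => by rw [← hfmul, mul_inv_cancel, hfone] }
      map_one' := Equiv.ext fun v => hfone v
      map_mul' := fun g h => Equiv.ext fun v => hfmul g h v }
  have hφ : ∀ g : N, ∀ v, (g : G) * m v * (g : G)⁻¹ = m (φ g v) := hf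
  have hφeq : ∀ (g : N) (ψ : Perm (F × F × F)), (∀ v, (g : G) * m v * (g : G)⁻¹ = m (ψ v)) → φ g = ψ :=
    fun g ψ h => Equiv.ext fun v => hminj (by rw [← hφ, h])
  let uN : F → N := fun s => ⟨uu s, huN _ _ (huconj s)⟩
  let tN : Fˣ → N := fun l => ⟨tt l, huN _ _ (htconj l)⟩
  have hφu : ∀ s, φ (uN s) = U s := fun s => hφeq _ _ (huconj s)
  have hφt : ∀ l, φ (tN l) = T l := fun l => hφeq _ _ (htconj l)
  have hMN : M ≤ N := Subgroup.le_normalizer
  have hφM : ∀ v, φ ⟨m v, hMN (hmM v)⟩ = 1 := fun v => hφeq _ _ fun w => by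
    rw [Equiv.Perm.one_apply, mul_inv_eq_iff_eq_mul, ← hmadd, ← hmadd, add_comm]
  -- centralizers of the first line
  have hmC : ∀ v, m v ∈ C := fun v => hjr ▸ ⟨_, rfl⟩
  have hroot : ∀ a, a ≠ 0 → Subgroup.centralizer ({m (za a)} : Set G) = C := by
    intro a ha
    refine hb _ (hmC _) (fun e => ?_) fun c hc => ?_
    · rw [← hm0] at e
      exact ha (congrArg Prod.fst (hminj e))
    · rw [← hjr] at hc
      obtain ⟨⟨y, hy⟩, rfl⟩ := hc
      simp only [hm]
      rw [← map_mul, ← map_mul]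
      congr 1
      refine Subtype.ext ?_
      show y * π (sm (za a)) = π (sm (za a)) * y
      obtain ⟨Y, rfl⟩ := QuotientGroup.mk'_surjective _ y
      rw [Subgroup.mem_centralizer_singleton_iff] at hy
      have h := mk_lift (p := p) hy
      rw [← map_mul, ← map_mul, root_comm ha0 a h]
  have hdec : ∀ g : N, (g : G) ∈ C → ∃ v s l, (g : G) = m v * uu s * tt l := by
    intro g hg
    rw [← hjr] at hg
    obtain ⟨⟨y, hy⟩, hyg⟩ := hg
    obtain ⟨Y, rfl⟩ := QuotientGroup.mk'_surjective _ y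
    obtain ⟨v, s, l, e⟩ := Model.normalizing (p := p) ha0 (Subgroup.mem_centralizer_singleton_iff.1 hy) fun v => by
      refine ⟨φ g v, ?_⟩
      have h := hφ g v
      simp only [hm, ← hyg, ← map_inv, ← map_mul] at h
      exact congrArg Subtype.val (hji h)
    refine ⟨v, s, l, ?_⟩
    rw [← hyg]
    simp only [hm, huu, htt, ← map_mul]
    exact congrArg j (Subtype.ext e)
  have hdecφ : ∀ g : N, (g : G) ∈ C → ∃ v s l, (g : G) = m v * uu s * tt l ∧ φ g = U s * T l := by
    intro g hg
    obtain ⟨v, s, l, e⟩ := hdec g hg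
    refine ⟨v, s, l, e, ?_⟩
    have : g = ⟨m v, hMN (hmM v)⟩ * uN s * tN l := Subtype.ext e
    rw [this, map_mul, map_mul, hφM, hφu, hφt, one_mul]
  have hker : φ.ker = M.subgroupOf N := by
    ext g
    rw [MonoidHom.mem_ker, Subgroup.mem_subgroupOf]
    constructor
    · intro h
      have h1 : (g : G) ∈ C := by
        rw [← hroot 1 one_ne_zero, Subgroup.mem_centralizer_singleton_iff]
        have := hφ g (za 1)
        rw [h, Equiv.Perm.one_apply, mul_inv_eq_iff_eq_mul] at this
        exact this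
      obtain ⟨v, s, l, e, e'⟩ := hdecφ g h1
      rw [h] at e'
      have h2 := congrArg (fun g : Perm (F × F × F) => g ((0, 1, 0) : F × F × F)) e'
      simp [U_apply, T_apply, Prod.ext_iff] at h2
      obtain ⟨h3, h4⟩ := h2
      have hl : l = 1 := Units.ext h4.symm
      have hs : s = 0 := by
        have h2' : (2 : F) ≠ 0 := by
          intro h
          have : p ∣ 2 := (CharP.cast_eq_zero_iff F p 2).1 (by exact_mod_cast h)
          exact hp ((Nat.prime_dvd_prime_iff_eq Fact.out Nat.prime_two).1 this)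
        exact h3.resolve_left h2'
      subst hl hs
      have e1 : uu 0 = 1 := by
        have h := congrArg j (uC_add a0 0 0)
        rw [add_zero, map_mul, left_eq_mul] at h
        exact h
      have e2 : tt 1 = 1 := by
        have : tC a0 (1 : Fˣ) = 1 := Subtype.ext (by
          show π (glM (diagGL 1 1)) = 1
          rw [show diagGL (1 : Fˣ) 1 = 1 from Units.ext (by ext i k; fin_cases i <;> fin_cases k <;> simp [diagGL]),
            map_one, map_one])
        simp only [htt, this, map_one]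
      rw [e, e1, e2, mul_one, mul_one]
      exact hmM v
    · intro h
      obtain ⟨v, hv⟩ := (hM _).1 h
      rw [show g = ⟨m v, hMN (hmM v)⟩ from Subtype.ext hv.symm]
      exact hφM v
  -- the Sylow subgroup
  have huP : ∀ s, uu s ∈ (P : Subgroup G) := fun s => (hP _).2 ⟨_, ug_mem s, (uC a0 s).2, rfl⟩
  have hMP : M ≤ P := fun y hy => by
    obtain ⟨v, rfl⟩ := (hM y).1 hy
    exact (hP _).2 ⟨_, sm_mem v, (mC a0 v).2, rfl⟩
  have hPdec : ∀ y ∈ (P : Subgroup G), ∃ v s, y = m v * uu s := by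
    intro y hy
    obtain ⟨A, hA, h, rfl⟩ := (hP y).1 hy
    obtain ⟨v, s, rfl⟩ := upper_cases hA
    refine ⟨v, s, ?_⟩
    simp only [hm, huu, ← map_mul]
    exact congrArg j (Subtype.ext (map_mul π _ _))
  have hPN : (P : Subgroup G) ≤ N := fun y hy => by
    obtain ⟨v, s, rfl⟩ := hPdec y hy
    exact mul_mem (hMN (hmM v)) (uN s).2
  -- the hypotheses of the recognition
  have X : Ctx p φ.range := by
    refine ⟨Fact.out, hp, inferInstance, hq4, ?_, fun s => ⟨uN s, hφu s⟩, fun l => ⟨tN l, hφt l⟩, ?_, ?_, ?_⟩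
    · rintro _ ⟨g, rfl⟩ x y
      apply hminj
      rw [← hφ, hmadd, hmadd, ← hφ, ← hφ]
      group
    · rintro _ ⟨g, rfl⟩ a ha h
      have h1 : (g : G) ∈ C := by
        rw [← hroot a ha, Subgroup.mem_centralizer_singleton_iff]
        have := hφ g (za a)
        rw [h, mul_inv_eq_iff_eq_mul] at this
        exact this
      obtain ⟨-, s, l, -, e⟩ := hdecφ g h1
      exact ⟨s, l, e⟩
    · by_contra hno
      push Not at hno
      obtain ⟨Q, R, hQR⟩ := hnc
      apply hQR
      have key : ∀ S : Sylow p N, S = P.subtype hPN := by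
        intro S
        refine Sylow.ext (S.3 (P.subtype hPN).2 fun y hy => ?_).symm
        obtain ⟨k, hk⟩ := S.2 ⟨y, hy⟩
        have hk' : φ y ^ p ^ k = 1 := by
          rw [← map_pow, show y ^ p ^ k = 1 from congrArg Subtype.val hk, map_one]
        obtain ⟨s', hs'⟩ := hno (φ y) ⟨y, rfl⟩ ⟨k, hk'⟩
        have hmem : y * (uN s')⁻¹ ∈ φ.ker := by
          rw [MonoidHom.mem_ker, map_mul, map_inv, hs', hφu, mul_inv_cancel]
        rw [hker, Subgroup.mem_subgroupOf] at hmem
        show (y : G) ∈ (P : Subgroup G)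
        have h := mul_mem (hMP hmem) (huP s')
        rwa [Subgroup.coe_mul, Subgroup.coe_inv, inv_mul_cancel_right] at h
      rw [key Q, key R]
    · obtain ⟨u, w, Pu, Pw, hou, how, hu, huc, hw, hwc, hne⟩ := hc
      have red : ∀ (u : G) (Pu : Sylow p G), orderOf u = p → u ∈ (Pu : Subgroup G) →
          (∀ y ∈ (Pu : Subgroup G), y * u = u * y) → ∃ (g : G) (a : F), a ≠ 0 ∧ g * u * g⁻¹ = m (za a) := by
        intro u Pu hou hu huc
        obtain ⟨g, hg⟩ := MulAction.exists_smul_eq G Pu P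
        have hmem : ∀ y, y ∈ (Pu : Subgroup G) ↔ g * y * g⁻¹ ∈ (P : Subgroup G) := by
          intro y
          rw [← hg, Sylow.coe_subgroup_smul, Subgroup.mem_pointwise_smul_iff_inv_smul_mem]
          simp [MulAut.smul_def, mul_assoc]
        have h1 : ∀ y ∈ (P : Subgroup G), y * (g * u * g⁻¹) = g * u * g⁻¹ * y := by
          intro y hy
          have h := huc (g⁻¹ * y * g) ((hmem _).2 (by simpa [mul_assoc] using hy))
          calc y * (g * u * g⁻¹) = g * ((g⁻¹ * y * g) * u) * g⁻¹ := by group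
            _ = _ := by rw [h]; group
        obtain ⟨A, hA, hAC, e⟩ := (hP _).1 ((hmem u).1 hu)
        obtain ⟨a, rfl⟩ := centre_upper (p := p) (fun h => hp ((Nat.prime_dvd_prime_iff_eq Fact.out Nat.prime_two).1
          ((CharP.cast_eq_zero_iff F p 2).1 (by exact_mod_cast h)))) hA fun B hB => by
            obtain ⟨vb, sb, rfl⟩ := upper_cases hB
            have hy : j (mC a0 vb * uC a0 sb) ∈ (P : Subgroup G) := by
              rw [map_mul]; exact mul_mem (hMP (hmM vb)) (huP sb)
            have h := h1 _ hy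
            rw [← e, ← map_mul, ← map_mul] at h
            have h' := congrArg Subtype.val (hji h)
            rw [map_mul π (sm vb)]
            exact h'.symm
        refine ⟨g, a, fun ha => ?_, e.symm⟩
        subst ha
        rw [show j ⟨π (sm (za 0)), hAC⟩ = m 0 from rfl, hm0] at e
        have : u = 1 := conj_eq_one_iff.1 e.symm
        rw [this, orderOf_one] at hou
        exact (Fact.out : p.Prime).ne_one hou.symm
      obtain ⟨g, a, ha, ea⟩ := red u Pu hou hu huc
      obtain ⟨g', b, hb', eb⟩ := red w Pw how hw hwc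
      refine ⟨a, b, ha, hb', ?_⟩
      rintro _ ⟨h, rfl⟩ he
      refine hne (g'⁻¹ * (h : G) * g) ?_
      have h1 := hφ h (za a)
      rw [he, ← ea, ← eb] at h1
      calc g'⁻¹ * (h : G) * g * u * (g'⁻¹ * (h : G) * g)⁻¹ = g'⁻¹ * ((h : G) * (g * u * g⁻¹) * (h : G)⁻¹) * g' := by
            group
        _ = g'⁻¹ * (g' * w * g'⁻¹) * g' := by rw [h1]
        _ = w := by group
  obtain ⟨e0⟩ := X.iso
  -- the complement
  set K := M.subgroupOf N with hK
  haveI : K.Normal := hker ▸ φ.normal_ker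
  haveI : IsMulCommutative K := ⟨⟨fun x y => by
    obtain ⟨a, ha'⟩ := (hM _).1 x.2
    obtain ⟨b, hb'⟩ := (hM _).1 y.2
    have ha : j (mC a0 a) = ((x : N) : G) := ha'
    have hb : j (mC a0 b) = ((y : N) : G) := hb'
    refine Subtype.ext (Subtype.ext ?_)
    show ((x : N) : G) * (y : N) = (y : N) * (x : N)
    rw [← ha, ← hb, show j (mC a0 a) = m a from rfl, show j (mC a0 b) = m b from rfl, ← hmadd, ← hmadd, add_comm]⟩⟩
  let uhom : Multiplicative F →* G :=
    MonoidHom.mk' (fun s => uu s.toAdd) fun s r => by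
      simp only [huu, toAdd_mul]; rw [uC_add, map_mul]
  set A := uhom.range.subgroupOf N with hA
  have hKU : K ≤ (P.subtype hPN : Subgroup N) := fun g hg => hMP hg
  have hAU : A ≤ (P.subtype hPN : Subgroup N) := by
    rintro g ⟨s, hs⟩
    show (g : G) ∈ (P : Subgroup G)
    have hs' : uu s.toAdd = (g : G) := hs
    exact hs' ▸ huP _
  have hAK : A ⊓ K = ⊥ := by
    rw [Subgroup.eq_bot_iff_forall]
    rintro g ⟨⟨s, hs⟩, hg⟩
    obtain ⟨v, hv⟩ := (hM _).1 hg
    have h1 : mC a0 v = uC a0 s.toAdd := hji (hv.trans hs.symm)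
    obtain ⟨hv0, -⟩ := upper_eq (Cfsg.Agent.Fusion.SimplePSp.mk_injOn (p := p) one_le_two
      (sm_mem v) (ug_mem _) (congrArg Subtype.val h1))
    refine Subtype.ext ?_
    have hv' : j (mC a0 v) = (g : G) := hv
    rw [← hv', hv0]
    exact hm0
  have hKA : K ⊔ A = (P.subtype hPN : Subgroup N) := by
    refine le_antisymm (sup_le hKU hAU) fun g hg => ?_
    obtain ⟨v, s, e⟩ := hPdec _ hg
    rw [show g = ⟨m v, hMN (hmM v)⟩ * uN s from Subtype.ext e]
    exact Subgroup.mul_mem_sup (hmM v) ⟨Multiplicative.ofAdd s, rfl⟩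
  have hcop : (Nat.card K).Coprime (P.subtype hPN : Subgroup N).index := by
    have hKp : IsPGroup p K := (P.subtype hPN).2.to_le hKU
    obtain ⟨k, hk⟩ := IsPGroup.iff_card.1 hKp
    rw [hk]
    exact Nat.Coprime.pow_left _ ((Fact.out : p.Prime).coprime_iff_not_dvd.2 (Sylow.not_dvd_index _))
  obtain ⟨H, hH⟩ := Cfsg.Agent.Solvable.Gaschutz.exists_complement' hKU hcop hAU hAK hKA
  refine ⟨H.map N.subtype, ?_, ?_, ?_, ?_⟩
  · exact Subgroup.map_subtype_le H
  · have h := congrArg (Subgroup.map N.subtype) hH.sup_eq_top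
    rw [Subgroup.map_sup, hK, Subgroup.map_subgroupOf_eq_of_le hMN, ← MonoidHom.range_eq_map, Subgroup.range_subtype] at h
    exact h
  · have h := congrArg (Subgroup.map N.subtype) (disjoint_iff.1 hH.disjoint)
    rw [Subgroup.map_inf _ _ _ (Subgroup.subtype_injective N), hK, Subgroup.map_subgroupOf_eq_of_le hMN,
      Subgroup.map_bot] at h
    exact h
  · have e1 : N ⧸ K ≃* H := hH.symm.QuotientMulEquiv
    exact ⟨((Subgroup.equivMapOfInjective H _ (Subgroup.subtype_injective N)).symm.trans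
      (e1.symm.trans ((QuotientGroup.quotientMulEquivOfEq hker.symm).trans
        (QuotientGroup.quotientKerEquivRange φ)))).trans e0⟩
end Cfsg.Agent.SymSquare.Normalizer
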